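import Cfsg.Agent.BlockBasic.CentralDefect
import Cfsg.Agent.H85.CharAux
import Cfsg.Agent.CharInduce.CoprimeExt
import Cfsg.Agent.CharInduce.Gallagher
import Cfsg.Agent.H82.PrincipalBlock
import Mathlib.GroupTheory.SchurZassenhaus

/-!
# Characters and blocks of a group with a central Sylow subgroup of prime order

Every irreducible character is uniquely the product of a character of the Sylow subgroup `Q` and a
character trivial on `Q`; the latter label the blocks, each of which has defect group `Q`.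
-/

set_option linter.unusedSectionVars false
set_option linter.style.haveILetI false

open scoped ComplexConjugate

namespace Cfsg.Agent.CycOne

open CharBasic BlockBasic

universe u

variable {K : Type u} [Group K] [Finite K] {p : ℕ} [hp : Fact p.Prime]

/-- `Q` is a central Sylow subgroup of order `p`. -/
structure IsCentralSylow (p : ℕ) (Q : Subgroup K) : Prop where
  comm : ∀ x ∈ Q, ∀ k : K, Commute x k
  card_eq : Nat.card Q = p
  not_dvd_index : ¬ p ∣ Q.index

variable {Q : Subgroup K}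

/-- A character is trivial on `Q`. -/
def IsTriv (Q : Subgroup K) (φ : IrrCharacter K) : Prop :=
  ∀ x ∈ Q, (φ : K → ℂ) x = (φ : K → ℂ) 1

namespace IsCentralSylow

variable (hQ : IsCentralSylow p Q)

include hQ

theorem normal : Q.Normal :=
  ⟨fun x hx k => by rw [← (hQ.comm x hx k).eq, mul_inv_cancel_right]; exact hx⟩

theorem isPGroup : IsPGroup p Q := IsPGroup.of_card (n := 1) (by rw [hQ.card_eq, pow_one])

theorem pow_card {x : K} (hx : x ∈ Q) : x ^ p = 1 := by
  have h := congrArg Subtype.val (pow_card_eq_one' (x := (⟨x, hx⟩ : Q)))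
  rwa [hQ.card_eq] at h

theorem sup_centralizer : Q ⊔ Subgroup.centralizer (Q : Set K) = ⊤ :=
  eq_top_iff.2 fun k _ => Subgroup.mem_sup_right
    (Subgroup.mem_centralizer_iff.2 fun x hx => (hQ.comm x hx k).eq)

theorem pPart_mem (k : K) : pPart (p := p) k ∈ Q := by
  haveI := hQ.normal
  obtain ⟨a, ha⟩ := exists_orderOf_pPart (p := p) k
  have h1 : orderOf (QuotientGroup.mk' Q (pPart (p := p) k)) ∣ p ^ a :=
    ha ▸ orderOf_map_dvd (QuotientGroup.mk' Q) _
  have h2 : orderOf (QuotientGroup.mk' Q (pPart (p := p) k)) ∣ Q.index := orderOf_dvd_natCard _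
  have h3 : Nat.Coprime (p ^ a) Q.index := ((hp.out.coprime_iff_not_dvd).2 hQ.not_dvd_index).pow_left a
  have h4 := orderOf_eq_one_iff.1 (Nat.eq_one_of_dvd_coprimes h3 h1 h2)
  exact (QuotientGroup.eq_one_iff _).1 h4

theorem pPart_of_mem {x : K} (hx : x ∈ Q) : pPart (p := p) x = x := by
  rw [pPart_eq_self_iff]
  obtain ⟨i, -, hi⟩ := (Nat.dvd_prime_pow hp.out).1
    (show orderOf x ∣ p ^ 1 by rw [pow_one]; exact orderOf_dvd_of_pow_eq_one (hQ.pow_card hx))
  exact ⟨i, hi⟩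

theorem pPart_mul_of_mem {x s : K} (hx : x ∈ Q) (hs : ¬ p ∣ orderOf s) :
    pPart (p := p) (x * s) = x :=
  pPart_mul_of (hQ.comm x hx s) ((pPart_eq_self_iff x).1 (hQ.pPart_of_mem hx)) hs

/-- The regular elements are closed under products. -/
theorem not_dvd_orderOf_mul {a b : K} (ha : ¬ p ∣ orderOf a) (hb : ¬ p ∣ orderOf b) :
    ¬ p ∣ orderOf (a * b) := by
  haveI := hQ.normal
  obtain ⟨L, hL⟩ := Subgroup.exists_right_complement'_of_coprime (N := Q)
    (by rw [hQ.card_eq]; exact (hp.out.coprime_iff_not_dvd).2 hQ.not_dvd_index)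
  have hLc : Nat.card L = Q.index := hL.symm.index_eq_card.symm
  have hmem : ∀ r : K, ¬ p ∣ orderOf r → r ∈ L := by
    intro r hr
    obtain ⟨⟨⟨x, hx⟩, ⟨l, hl⟩⟩, hxl⟩ := hL.surjective r
    change x * l = r at hxl
    have hl1 : l ^ Q.index = 1 := by
      have h := congrArg Subtype.val (pow_card_eq_one' (x := (⟨l, hl⟩ : L)))
      rwa [hLc] at h
    have h1 : r ^ Q.index = x ^ Q.index := by
      rw [← hxl, (hQ.comm x hx l).mul_pow, hl1, mul_one]
    have h2 : orderOf (x ^ Q.index) ∣ p :=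
      orderOf_dvd_of_pow_eq_one (hQ.pow_card (Q.pow_mem hx _))
    have h3 : x ^ Q.index = 1 := orderOf_eq_one_iff.1
      (((Nat.dvd_prime hp.out).1 h2).resolve_right fun e => hr (by
        have h := orderOf_pow_dvd (x := r) Q.index
        rwa [h1, e] at h))
    have h4 : x = 1 := by
      rw [← orderOf_eq_one_iff]
      have hcop : Nat.Coprime p Q.index := (hp.out.coprime_iff_not_dvd).2 hQ.not_dvd_index
      exact Nat.eq_one_of_dvd_coprimes hcop (orderOf_dvd_of_pow_eq_one (hQ.pow_card hx))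
        (orderOf_dvd_of_pow_eq_one h3)
    rw [← hxl, h4, one_mul]
    exact hl
  intro h
  have h5 : orderOf (⟨a * b, L.mul_mem (hmem a ha) (hmem b hb)⟩ : L) ∣ Nat.card L :=
    orderOf_dvd_natCard _
  rw [Subgroup.orderOf_mk, hLc] at h5
  exact hQ.not_dvd_index (h.trans h5)

/-- The projection onto `Q`. -/
noncomputable def proj : K →* Q :=
  MonoidHom.mk' (fun k => ⟨pPart (p := p) k, hQ.pPart_mem k⟩) fun a b => Subtype.ext (by
    show pPart (p := p) (a * b) = pPart (p := p) a * pPart (p := p) b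
    have e : a * b = (pPart (p := p) a * pPart (p := p) b) * (pReg (p := p) a * pReg (p := p) b) := by
      conv_lhs => rw [← pPart_mul_pReg (p := p) a, ← pPart_mul_pReg (p := p) b]
      rw [mul_assoc, ← mul_assoc (pReg (p := p) a), ← (hQ.comm _ (hQ.pPart_mem b) _).eq, mul_assoc,
        ← mul_assoc]
    rw [e]
    exact hQ.pPart_mul_of_mem (Q.mul_mem (hQ.pPart_mem a) (hQ.pPart_mem b))
      (hQ.not_dvd_orderOf_mul (not_dvd_orderOf_pReg a) (not_dvd_orderOf_pReg b)))

theorem coe_proj (k : K) : (hQ.proj k : K) = pPart (p := p) k := rfl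

theorem proj_of_mem {x : K} (hx : x ∈ Q) : hQ.proj x = ⟨x, hx⟩ := Subtype.ext (hQ.pPart_of_mem hx)

theorem proj_eq_one_iff (k : K) : hQ.proj k = 1 ↔ ¬ p ∣ orderOf k := by
  rw [← pPart_eq_one_iff, Subtype.ext_iff, coe_proj, Subgroup.coe_one]

theorem isMulCommutative : IsMulCommutative Q :=
  ⟨⟨fun a b => Subtype.ext (hQ.comm a a.2 (b : K)).eq⟩⟩

theorem lam_one (l : IrrCharacter Q) : (l : Q → ℂ) 1 = 1 := by
  haveI := hQ.isMulCommutative
  exact H85.apply_one_eq_one_of_comm l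

theorem exists_hom (l : IrrCharacter Q) : ∃ f : Q →* ℂˣ, ∀ x, (l : Q → ℂ) x = (f x : ℂ) :=
  CharInduce.IsChar.exists_hom_of_degree_one (IsIrr.isCharacter l.2) (hQ.lam_one l)

theorem lam_mul (l : IrrCharacter Q) (x y : Q) :
    (l : Q → ℂ) (x * y) = (l : Q → ℂ) x * (l : Q → ℂ) y := by
  obtain ⟨f, hf⟩ := hQ.exists_hom l
  simp [hf]

theorem lam_pow_card (l : IrrCharacter Q) (x : Q) : (l : Q → ℂ) x ^ p = 1 := by
  obtain ⟨f, hf⟩ := hQ.exists_hom l
  have hx : x ^ p = 1 := by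
    have h := pow_card_eq_one' (x := x)
    rwa [hQ.card_eq] at h
  rw [hf, ← Units.val_pow_eq_pow_val, ← map_pow, hx, map_one, Units.val_one]

theorem card_irr : Nat.card (IrrCharacter Q) = p := by
  haveI := hQ.isMulCommutative
  letI : Fintype Q := Fintype.ofFinite _
  have h := sum_sq_degree (G := Q)
  simp only [hQ.lam_one, one_pow, Finset.sum_const, Finset.card_univ, nsmul_eq_mul, mul_one,
    Nat.cast_inj] at h
  rw [Nat.card_eq_fintype_card, h, hQ.card_eq]

/-- Multiplying by a character of `Q`. -/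
noncomputable def tw (l : IrrCharacter Q) (φ : IrrCharacter K) : IrrCharacter K :=
  ⟨fun k => (l : Q → ℂ) (hQ.proj k) * (φ : K → ℂ) k, by
    letI : Fintype K := Fintype.ofFinite K
    obtain ⟨f, hf⟩ := hQ.exists_hom l
    have h := CharInduce.isIrr_hom_mul φ.2 (f.comp hQ.proj)
    simpa [hf] using h⟩

theorem tw_apply (l : IrrCharacter Q) (φ : IrrCharacter K) (k : K) :
    (hQ.tw l φ : K → ℂ) k = (l : Q → ℂ) (hQ.proj k) * (φ : K → ℂ) k := rfl

theorem tw_regular (l : IrrCharacter Q) (φ : IrrCharacter K) {s : K} (hs : ¬ p ∣ orderOf s) :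
    (hQ.tw l φ : K → ℂ) s = (φ : K → ℂ) s := by
  rw [tw_apply, (hQ.proj_eq_one_iff s).2 hs, hQ.lam_one, one_mul]

theorem apply_eq_pReg {φ : IrrCharacter K} (hφ : IsTriv Q φ) (k : K) :
    (φ : K → ℂ) k = (φ : K → ℂ) (pReg (p := p) k) := by
  have h := CentralDefect.apply_mul_regular hQ.isPGroup hQ.sup_centralizer φ (hQ.pPart_mem k)
    (not_dvd_orderOf_pReg k)
  rw [pPart_mul_pReg, hφ _ (hQ.pPart_mem k), mul_comm] at h
  exact mul_left_cancel₀ (IsIrr.one_ne_zero φ.2) h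

theorem tw_inj {l l' : IrrCharacter Q} {φ φ' : IrrCharacter K} (hφ : IsTriv Q φ)
    (hφ' : IsTriv Q φ') (h : hQ.tw l φ = hQ.tw l' φ') : l = l' ∧ φ = φ' := by
  have h1 : φ = φ' := Subtype.ext (funext fun k => by
    rw [hQ.apply_eq_pReg hφ k, hQ.apply_eq_pReg hφ' k,
      ← hQ.tw_regular l φ (not_dvd_orderOf_pReg k), h, hQ.tw_regular l' φ' (not_dvd_orderOf_pReg k)])
  refine ⟨Subtype.ext (funext fun x => ?_), h1⟩
  have h2 := congrArg (fun ψ : IrrCharacter K => (ψ : K → ℂ) (x : K)) h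
  simp only [tw_apply, hQ.proj_of_mem x.2, ← h1, hφ _ x.2] at h2
  exact mul_right_cancel₀ (IsIrr.one_ne_zero φ.2) h2

theorem exists_tw (ψ : IrrCharacter K) :
    ∃ (l : IrrCharacter Q) (φ : IrrCharacter K), IsTriv Q φ ∧ hQ.tw l φ = ψ := by
  classical
  letI : Fintype K := Fintype.ofFinite K
  letI : Fintype Q := Fintype.ofFinite Q
  haveI := hQ.normal
  have hres : (fun x : Q => (ψ : K → ℂ) x) ≠ 0 := fun h => IsIrr.one_ne_zero ψ.2 (congrFun h 1)
  obtain ⟨l, hl⟩ := CharInduce.exists_constituent (CharInduce.IsChar.res (IsIrr.isCharacter ψ.2) Q) hres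
  have hinv : ∀ x : K, CharInduce.conjFun Q (l : Q → ℂ) x = (l : Q → ℂ) := fun x => funext fun y => by
    show (l : Q → ℂ) ⟨x * (y : K) * x⁻¹, _⟩ = _
    exact congrArg (l : Q → ℂ) (Subtype.ext (by
      show x * (y : K) * x⁻¹ = y
      rw [← (hQ.comm _ y.2 x).eq, mul_inv_cancel_right]))
  have hsc := CharInduce.res_eq_smul_of_invariant Q ψ.2 l.2 hinv hl
  have hval : ∀ x : Q, (ψ : K → ℂ) x = (ψ : K → ℂ) 1 * (l : Q → ℂ) x := by
    intro x
    have h1 := congrFun hsc 1
    have h2 := congrFun hsc x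
    simp only [Pi.smul_apply, smul_eq_mul, Subgroup.coe_one, hQ.lam_one, mul_one] at h1 h2
    rw [h2, h1]
  obtain ⟨f, hf⟩ := hQ.exists_hom l
  let φ : IrrCharacter K := ⟨fun k => ((f.comp hQ.proj)⁻¹ k : ℂ) * (ψ : K → ℂ) k,
    CharInduce.isIrr_hom_mul ψ.2 _⟩
  refine ⟨l, φ, fun x hx => ?_, ?_⟩
  · show ((f (hQ.proj x))⁻¹ : ℂˣ).val * (ψ : K → ℂ) x = ((f (hQ.proj 1))⁻¹ : ℂˣ).val * (ψ : K → ℂ) 1
    rw [hQ.proj_of_mem hx, map_one, map_one, inv_one, Units.val_one, one_mul,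
      show (ψ : K → ℂ) x = (ψ : K → ℂ) ((⟨x, hx⟩ : Q) : K) from rfl, hval, hf, mul_comm, mul_assoc,
      Units.mul_inv, mul_one]
  · refine Subtype.ext (funext fun k => ?_)
    show (l : Q → ℂ) (hQ.proj k) * (((f (hQ.proj k))⁻¹ : ℂˣ).val * (ψ : K → ℂ) k) = _
    rw [hf, ← mul_assoc, Units.mul_inv, one_mul]

/-- The factor trivial on `Q`. -/
noncomputable def base (ψ : IrrCharacter K) : IrrCharacter K := (hQ.exists_tw ψ).choose_spec.choose

/-- The factor on `Q`. -/
noncomputable def wt (ψ : IrrCharacter K) : IrrCharacter Q := (hQ.exists_tw ψ).choose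

theorem isTriv_base (ψ : IrrCharacter K) : IsTriv Q (hQ.base ψ) :=
  (hQ.exists_tw ψ).choose_spec.choose_spec.1

theorem tw_wt_base (ψ : IrrCharacter K) : hQ.tw (hQ.wt ψ) (hQ.base ψ) = ψ :=
  (hQ.exists_tw ψ).choose_spec.choose_spec.2

theorem base_eq {ψ φ : IrrCharacter K} (hφ : IsTriv Q φ) (l : IrrCharacter Q)
    (h : hQ.tw l φ = ψ) : hQ.base ψ = φ :=
  (hQ.tw_inj (hQ.isTriv_base ψ) hφ ((hQ.tw_wt_base ψ).trans h.symm)).2

theorem base_tw {φ : IrrCharacter K} (hφ : IsTriv Q φ) (l : IrrCharacter Q) :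
    hQ.base (hQ.tw l φ) = φ := hQ.base_eq hφ l rfl

theorem base_of_isTriv {φ : IrrCharacter K} (hφ : IsTriv Q φ) : hQ.base φ = φ := by
  refine hQ.base_eq hφ trivialIrr (Subtype.ext (funext fun k => ?_))
  rw [tw_apply]
  exact one_mul _

theorem eq_base_iff (ψ : IrrCharacter K) : ψ = hQ.base ψ ↔ IsTriv Q ψ :=
  ⟨fun h => h ▸ hQ.isTriv_base ψ, fun h => (hQ.base_of_isTriv h).symm⟩

theorem base_apply_one (ψ : IrrCharacter K) : (hQ.base ψ : K → ℂ) 1 = (ψ : K → ℂ) 1 := by
  conv_rhs => rw [← hQ.tw_wt_base ψ, tw_apply, map_one, hQ.lam_one, one_mul]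

theorem base_apply_regular (ψ : IrrCharacter K) {s : K} (hs : ¬ p ∣ orderOf s) :
    (hQ.base ψ : K → ℂ) s = (ψ : K → ℂ) s := by
  conv_rhs => rw [← hQ.tw_wt_base ψ, hQ.tw_regular _ _ hs]

/-- The fibre of `base` is parametrised by the characters of `Q`. -/
theorem sum_fibre [Fintype K] [Fintype (IrrCharacter Q)] {φ : IrrCharacter K} (hφ : IsTriv Q φ)
    [DecidableEq (IrrCharacter K)] {A : Type*} [AddCommMonoid A] (g : IrrCharacter K → A) :
    ∑ ψ with hQ.base ψ = φ, g ψ = ∑ l : IrrCharacter Q, g (hQ.tw l φ) := by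
  refine (Finset.sum_bij' (fun ψ _ => hQ.wt ψ) (fun l _ => hQ.tw l φ) (fun _ _ => Finset.mem_univ _)
    (fun l _ => Finset.mem_filter.2 ⟨Finset.mem_univ _, hQ.base_tw hφ l⟩) ?_ ?_ ?_)
  · intro ψ hψ
    conv_rhs => rw [← hQ.tw_wt_base ψ, (Finset.mem_filter.1 hψ).2]
  · intro l _
    refine (hQ.tw_inj hφ hφ ?_).1
    conv_rhs => rw [← hQ.tw_wt_base (hQ.tw l φ), hQ.base_tw hφ l]
  · intro ψ hψ
    conv_lhs => rw [← hQ.tw_wt_base ψ, (Finset.mem_filter.1 hψ).2]

theorem card_fibre [Fintype K] [DecidableEq (IrrCharacter K)] {φ : IrrCharacter K}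
    (hφ : IsTriv Q φ) : (Finset.univ.filter fun ψ => hQ.base ψ = φ).card = p := by
  letI : Fintype (IrrCharacter Q) := Fintype.ofFinite _
  rw [Finset.card_eq_sum_ones, hQ.sum_fibre hφ, Finset.sum_const, Finset.card_univ,
    ← Nat.card_eq_fintype_card, hQ.card_irr, smul_eq_mul, mul_one]

/-- A nontrivial character is faithful on `Q`. -/
theorem lam_ne_one {l : IrrCharacter Q} (hl : l ≠ trivialIrr) {x : Q} (hx : x ≠ 1) :
    (l : Q → ℂ) x ≠ 1 := by
  intro h
  obtain ⟨f, hf⟩ := hQ.exists_hom l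
  refine hl (Subtype.ext (funext fun y => ?_))
  have hfx : f x = 1 := Units.ext (by rw [← hf, h, Units.val_one])
  have hker : f.ker = ⊤ := by
    haveI : Fact (Nat.card Q).Prime := ⟨hQ.card_eq.symm ▸ hp.out⟩
    rcases f.ker.eq_bot_or_eq_top_of_prime_card with h1 | h1
    · exact absurd (h1 ▸ (MonoidHom.mem_ker.2 hfx) : x ∈ (⊥ : Subgroup Q)) (fun hb => hx hb)
    · exact h1
  have : f y = 1 := MonoidHom.mem_ker.1 (hker ▸ Subgroup.mem_top y)
  rw [hf, this, Units.val_one]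
  rfl

variable {M : Ideal AlgInt}

theorem sameBlock_base (hM : IsPModular p M) (ψ : IrrCharacter K) :
    SameBlock M (ψ : K → ℂ) (hQ.base ψ : K → ℂ) := by
  letI : Fintype K := Fintype.ofFinite K
  intro g
  have e : centralChar (ψ : K → ℂ) g - centralChar (hQ.base ψ : K → ℂ) g =
      centralChar (hQ.base ψ : K → ℂ) g * ((hQ.wt ψ : Q → ℂ) (hQ.proj g) - 1) := by
    unfold centralChar
    rw [hQ.base_apply_one ψ]
    conv_lhs => enter [1, 1, 2]; rw [← hQ.tw_wt_base ψ, tw_apply]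
    ring
  rw [e]
  exact memLocalIdeal_mul hM (memLocalRing_centralChar hM (hQ.base ψ).2 g)
    (H82.memLocalIdeal_sub_one_of_pow_eq_one hM (k := 1) (by rw [pow_one]; exact hQ.lam_pow_card _ _))

theorem isDefectGroup (hM : IsPModular p M) {b : Set (IrrCharacter K)} (hb : IsPBlock M b) :
    IsDefectGroup p M b Q := by
  haveI := hQ.normal
  obtain ⟨g, hg⟩ := exists_isDefectClass (p := p) hM hb
  have hD : IsDefectGroup p M b (H35.sylImage (default : Sylow p (Subgroup.centralizer ({g} : Set K)))) :=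
    ⟨g, hg, default, rfl⟩
  set D := H35.sylImage (default : Sylow p (Subgroup.centralizer ({g} : Set K)))
  have hle := H35.le_defectGroup_of_normal hM hb hD Q hQ.isPGroup
  have hc := H35.card_defectGroup hM hb hD
  suffices Q = D from this ▸ hD
  refine Subgroup.eq_of_le_of_card_ge hle ?_
  have h1 : p ^ blockDefect p b ∣ Nat.card Q * Q.index := by
    rw [← hc, Q.card_mul_index]; exact Subgroup.card_subgroup_dvd_card D
  have h2 : p ^ blockDefect p b ∣ Nat.card Q :=
    (((hp.out.coprime_iff_not_dvd).2 hQ.not_dvd_index).pow_left _).dvd_of_dvd_mul_right h1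
  rw [hc]
  exact Nat.le_of_dvd Nat.card_pos h2

theorem sameBlock_iff (hM : IsPModular p M) (ψ ψ' : IrrCharacter K) :
    SameBlock M (ψ : K → ℂ) (ψ' : K → ℂ) ↔ hQ.base ψ = hQ.base ψ' := by
  constructor
  · intro h
    have hb := isPBlock_blockOf M (hQ.base ψ)
    refine CentralDefect.trivial_unique hM hb hQ.sup_centralizer (hQ.isDefectGroup hM hb)
      (self_mem_blockOf hM _) ?_ (hQ.isTriv_base ψ) (hQ.isTriv_base ψ')
    exact mem_blockOf.2 (sameBlock_trans hM (sameBlock_symm (hQ.sameBlock_base hM ψ))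
      (sameBlock_trans hM h (hQ.sameBlock_base hM ψ')))
  · intro h
    refine sameBlock_trans hM (hQ.sameBlock_base hM ψ) ?_
    rw [h]
    exact sameBlock_symm (hQ.sameBlock_base hM ψ')

/-- The block of a character trivial on `Q` is its fibre. -/
theorem mem_block_iff (hM : IsPModular p M) {φ : IrrCharacter K} (hφ : IsTriv Q φ)
    (ψ : IrrCharacter K) : ψ ∈ blockOf M (φ : K → ℂ) ↔ hQ.base ψ = φ := by
  rw [mem_blockOf, hQ.sameBlock_iff hM, hQ.base_of_isTriv hφ, eq_comm]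

theorem not_dvd_degree {φ : IrrCharacter K} (hφ : IsTriv Q φ) :
    ¬ p ∣ charDegree (φ : K → ℂ) := by
  haveI := hQ.normal
  exact fun h => hQ.not_dvd_index (h.trans (H82.charDegree_dvd_index Q φ.2 hφ))

end IsCentralSylow

end Cfsg.Agent.CycOne
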