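import Cfsg.Agent.CycOne.Values
import Cfsg.Agent.H35.Consequences

/-!
# Counting the characters of degree prime to `p` when a Sylow subgroup has order `p`
-/

set_option linter.unusedSectionVars false
set_option linter.style.haveILetI false
set_option maxHeartbeats 1000000

namespace Cfsg.Agent.CycOne

open CharBasic BlockBasic

universe u

variable {G : Type u} [Group G] [Fintype G] {p : ℕ} [hp : Fact p.Prime]
variable (P : Sylow p G) (hP : Nat.card P = p) [Fintype (cen P)] [Fintype (nor P)]
variable {M : Ideal AlgInt}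

/-- The weight of a root. -/
noncomputable def rootWeight (θ : IrrCharacter (cen P)) : ℕ :=
  (idx P θ + (p - 1) / idx P θ) * Nat.card (stab P θ)

include hP

theorem factorization_card : (Nat.card G).factorization p = 1 := by
  rw [← Nat.pow_right_injective hp.out.two_le |>.eq_iff]
  show p ^ (Nat.card G).factorization p = p ^ 1
  rw [pow_one, ← P.card_eq_multiplicity]
  exact hP

/-- The block induced by a root has defect group `P`. -/
theorem isDefectGroup_induced (hM : IsPModular p M) {φ : IrrCharacter (cen P)}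
    {B : Set (IrrCharacter G)}
    (hind : IsInducedBlock M (cen P) (blockOf M (φ : cen P → ℂ)) B) :
    IsDefectGroup p M B (P : Subgroup G) := by
  obtain ⟨E, hE, hle⟩ := H35.defectGroup_le_induced hM (cen P) hind
    ((isCS P hP).isDefectGroup hM hind.1)
  rw [Subgroup.map_subgroupOf_eq_of_le (le_cen P hP)] at hle
  exact P.is_maximal' (IsPGroup.of_card (H35.card_defectGroup hM hind.2.1 hE)) hle ▸ hE

theorem defect_pos_induced (hM : IsPModular p M) {φ : IrrCharacter (cen P)}
    {B : Set (IrrCharacter G)}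
    (hind : IsInducedBlock M (cen P) (blockOf M (φ : cen P → ℂ)) B) : 0 < blockDefect p B := by
  have h := H35.card_defectGroup hM hind.2.1 (isDefectGroup_induced P hP hM hind)
  refine Nat.pos_of_ne_zero fun h0 => ?_
  rw [h0, pow_zero] at h
  exact hp.out.ne_one (hP.symm.trans h)

/-- A character whose degree is prime to `p` lies in a block with a root. -/
theorem exists_root_of_degree (hM : IsPModular p M) {χ : IrrCharacter G}
    (hχ : ¬ p ∣ charDegree (χ : G → ℂ)) :
    ∃ (θ : IrrCharacter (cen P)) (B : Set (IrrCharacter G)), IsTriv (sylC P) θ ∧ χ ∈ B ∧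
      IsInducedBlock M (cen P) (blockOf M (θ : cen P → ℂ)) B := by
  classical
  set B := blockOf M (χ : G → ℂ)
  have hB : IsPBlock M B := isPBlock_blockOf M χ
  obtain ⟨g, hg⟩ := BlockBasic.exists_isDefectClass (p := p) hM hB
  have hfac := factorization_card P hP
  have hd1 : blockDefect p B = 1 := by
    rw [blockDefect, hfac, show sInf ((fun χ : IrrCharacter G =>
      (charDegree (χ : G → ℂ)).factorization p) '' B) = 0 from
        Nat.le_zero.1 (Nat.sInf_le ⟨χ, self_mem_blockOf hM χ,
          Nat.factorization_eq_zero_of_not_dvd hχ⟩)]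
  let S0 : Sylow p (Subgroup.centralizer ({g} : Set G)) := default
  have hD : IsDefectGroup p M B (H35.sylImage S0) := ⟨g, hg, S0, rfl⟩
  have hcard := H35.card_defectGroup hM hB hD
  rw [hd1, pow_one] at hcard
  obtain ⟨Q, hle⟩ := (IsPGroup.of_card (p := p) (n := 1) (G := (H35.sylImage S0 : Subgroup G))
    (by rw [pow_one]; exact hcard)).exists_le_sylow
  have hQe : H35.sylImage S0 = (Q : Subgroup G) := Subgroup.eq_of_le_of_card_ge hle
    (le_of_eq (((Nat.card_congr (Sylow.equiv Q P).toEquiv).trans hP).trans hcard.symm))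
  obtain ⟨x, hx⟩ := MulAction.exists_smul_eq G Q P
  have hgQ : g ∈ Subgroup.centralizer ((Q : Subgroup G) : Set G) := by
    rw [← hQe]
    refine Subgroup.mem_centralizer_iff.2 ?_
    rintro y ⟨z, -, rfl⟩
    exact Subgroup.mem_centralizer_singleton_iff.1 z.2
  have hgP : x * g * x⁻¹ ∈ cen P := by
    refine Subgroup.mem_centralizer_iff.2 fun y hy => ?_
    rw [← hx] at hy
    obtain ⟨z, hz, rfl⟩ := hy
    have := congrArg (MulAut.conj x) (Subgroup.mem_centralizer_iff.1 hgQ z hz)
    simpa using this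
  obtain ⟨ξ, hξ⟩ := exists_root hM P.isPGroup' (le_cen P hP) le_rfl (cen_le_nor P) hB hgP
    (by rw [isClassFunction_blockCoeff B g x]; exact hg.2.1)
  refine ⟨bs P hP ξ, B, isTriv_bs P hP ξ, self_mem_blockOf hM χ, ?_⟩
  have hmem : bs P hP ξ ∈ blockOf M (ξ : cen P → ℂ) :=
    mem_blockOf.2 ((isCS P hP).sameBlock_base hM ξ)
  rwa [← isPBlock_eq_blockOf hM hξ.1 hmem]

/-- The degrees in a block with a root are prime to `p`. -/
theorem not_dvd_degree_of_root (hM : IsPModular p M) {θ : IrrCharacter (cen P)}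
    (hθ : IsTriv (sylC P) θ) {B : Set (IrrCharacter G)}
    (hind : IsInducedBlock M (cen P) (blockOf M (θ : cen P → ℂ)) B) {χ : IrrCharacter G}
    (hχ : χ ∈ B) : ¬ p ∣ charDegree (χ : G → ℂ) := by
  have hBP := isDefectGroup_induced P hP hM hind
  obtain ⟨S⟩ := nonempty_blockShape P hP hM hBP (defect_pos_induced P hP hM hind) hθ hind
  have hθ1 : ¬ p ∣ charDegree (θ : cen P → ℂ) := (isCS P hP).not_dvd_degree hθ
  have hN : ¬ p ∣ (cenN P).index := fun h => P.not_dvd_index (h.trans (by
    exact (Subgroup.relIndex_dvd_of_le_left _ (le_cen P hP)).trans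
      (dvd_of_mul_right_eq _ (Subgroup.relIndex_mul_index
        ((le_cen P hP).trans (cen_le_nor P))))))
  have hst : ¬ p ∣ (stab P θ).index := fun h =>
    hN (h.trans (Subgroup.index_dvd_of_le (cenN_le_stab P θ)))
  have hpZ : Prime (p : ℤ) := Nat.prime_iff_prime_int.1 hp.out
  intro hdvd
  have hdvd' : ((charDegree (χ : G → ℂ) : ℕ) : ℤ) ≡ 0 [ZMOD p] :=
    Int.modEq_zero_iff_dvd.2 (Int.natCast_dvd_natCast.2 hdvd)
  by_cases hY : χ ∈ S.Y
  · have h := Int.modEq_zero_iff_dvd.1 ((S.degree_in hM hBP hθ hind hY).symm.trans hdvd')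
    rcases S.δ_sign with e | e <;> rw [e] at h
    all_goals
      simp only [one_mul, neg_mul, dvd_neg, Int.natCast_dvd_natCast] at h
      exact (hp.out.dvd_mul.1 h).elim hN hθ1
  · have h := Int.modEq_zero_iff_dvd.1 ((S.degree_out hM hBP hθ hind hχ hY).symm.trans hdvd')
    rcases S.a_sign χ hχ hY with e | e <;> rw [e] at h
    all_goals
      simp only [one_mul, neg_mul, dvd_neg, Int.natCast_dvd_natCast] at h
      exact (hp.out.dvd_mul.1 h).elim hst hθ1

omit hP in
theorem card_stab_cact (m : nor P) (θ : IrrCharacter (cen P)) :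
    Nat.card (stab P (cact P m θ)) = Nat.card (stab P θ) := by
  refine Nat.card_congr
    { toFun := fun s => ⟨m * s.1 * m⁻¹, ?_⟩
      invFun := fun s => ⟨m⁻¹ * s.1 * m, ?_⟩
      left_inv := fun s => Subtype.ext (by simp [mul_assoc])
      right_inv := fun s => Subtype.ext (by simp [mul_assoc]) }
  · have h := (mem_stab P).1 s.2
    rw [mem_stab, ← cact_mul, ← cact_mul, h, cact_mul, mul_inv_cancel, cact_one]
  · have h := (mem_stab P).1 s.2
    rw [mem_stab, cact_mul, mul_assoc, mul_inv_cancel_left, ← cact_mul, h]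

open scoped Classical in
omit hP in
theorem sum_card_stab_orbit (θ₀ : IrrCharacter (cen P)) :
    ∑ θ with ∃ n : nor P, cact P n θ₀ = θ, Nat.card (stab P θ) = Nat.card (nor P) := by
  rw [Nat.card_eq_fintype_card (α := nor P), ← Finset.card_univ,
    Finset.card_eq_sum_card_fiberwise (s := (Finset.univ : Finset (nor P)))
      (f := fun n => cact P n θ₀) (t := Finset.univ.filter fun θ => ∃ n : nor P, cact P n θ₀ = θ)
      (fun n _ => Finset.mem_coe.2 (Finset.mem_filter.2 ⟨Finset.mem_univ _, n, rfl⟩))]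
  refine Finset.sum_congr rfl fun θ hθ => ?_
  obtain ⟨m, rfl⟩ := (Finset.mem_filter.1 hθ).2
  rw [← Fintype.card_subtype, ← Nat.card_eq_fintype_card]
  exact Nat.card_congr
    { toFun := fun s => ⟨m * s.1, by rw [← cact_mul]; exact (mem_stab P).1 s.2⟩
      invFun := fun n => ⟨m⁻¹ * n.1, by
        rw [mem_stab, cact_mul, mul_inv_cancel_left]; exact n.2⟩
      left_inv := fun s => Subtype.ext (by simp)
      right_inv := fun n => Subtype.ext (by simp) }

open scoped Classical in
/-- The count. -/
theorem card_pprime_mul (hM : IsPModular p M) :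
    Nat.card {χ : IrrCharacter G // ¬ p ∣ charDegree (χ : G → ℂ)} * Nat.card (nor P) =
      ∑ θ : IrrCharacter (cen P) with IsTriv (sylC P) θ, rootWeight P θ := by
  choose Bk hBk using fun θ : IrrCharacter (cen P) => exists_induced P hP hM θ
  have hin : ∀ θ ∈ Finset.univ.filter (fun θ : IrrCharacter (cen P) => IsTriv (sylC P) θ),
      rootWeight P θ = ∑ χ : IrrCharacter G with χ ∈ Bk θ, Nat.card (stab P θ) := by
    intro θ hθ
    have hθ' := (Finset.mem_filter.1 hθ).2
    obtain ⟨S⟩ := nonempty_blockShape P hP hM (isDefectGroup_induced P hP hM (hBk θ))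
      (defect_pos_induced P hP hM (hBk θ)) hθ' (hBk θ)
    rw [Finset.sum_const, smul_eq_mul, rootWeight, S.pred_div, add_comm, ← S.card_B,
      ← Fintype.card_subtype, ← Nat.card_eq_fintype_card]
  rw [Finset.sum_congr rfl hin, Finset.sum_comm' (t' := Finset.univ.filter
    fun χ : IrrCharacter G => ¬ p ∣ charDegree (χ : G → ℂ))
    (s' := fun χ => Finset.univ.filter fun θ => IsTriv (sylC P) θ ∧ χ ∈ Bk θ)]
  · rw [Finset.sum_congr rfl (g := fun _ => Nat.card (nor P)) fun χ hχ => ?_, Finset.sum_const,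
      smul_eq_mul, ← Fintype.card_subtype, ← Nat.card_eq_fintype_card]
    obtain ⟨θ₀, B, hθ₀, hχB, hind⟩ := exists_root_of_degree P hP hM (Finset.mem_filter.1 hχ).2
    rw [← sum_card_stab_orbit P θ₀]
    refine Finset.sum_congr (Finset.ext fun θ => ?_) fun _ _ => rfl
    simp only [Finset.mem_filter, Finset.mem_univ, true_and]
    constructor
    · rintro ⟨hθ, hχθ⟩
      have hB : Bk θ = B := isPBlock_eq_of_mem hM (hBk θ).2.1 hind.2.1 hχθ hχB
      exact exists_cact_eq P hP hM (isDefectGroup_induced P hP hM hind) hθ hθ₀ (hB ▸ hBk θ) hind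
    · rintro ⟨n, rfl⟩
      refine ⟨isTriv_cact P hP n hθ₀, by_contra fun hno => ?_⟩
      have hd := defect_pos_induced P hP hM hind
      obtain ⟨S⟩ := nonempty_blockShape P hP hM (isDefectGroup_induced P hP hM hind) hd hθ₀ hind
      obtain ⟨ψ, hψ, hv⟩ := exists_fam_ne_zero P hP hM (isDefectGroup_induced P hP hM hind) hd hθ₀
        hind hχB
      refine hv ?_
      rw [← vec_cact P hP χ n ψ]
      exact vec_eq_zero_of_notMem P hP hM
        (by rw [bs_cact, ((mem_fam P hP).1 hψ).1]; exact hBk _) hno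
  · intro θ χ
    simp only [Finset.mem_filter, Finset.mem_univ, true_and]
    exact ⟨fun h => ⟨h, not_dvd_degree_of_root P hP hM h.1 (hBk θ) h.2⟩, fun h => h.1⟩

end Cfsg.Agent.CycOne
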