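import Cfsg.Agent.CycOne.Values
import Cfsg.Agent.H43.Galois

/-!
# The automorphisms fixing the roots of unity of order prime to `p`
-/

set_option linter.unusedSectionVars false
set_option linter.style.haveILetI false
set_option maxHeartbeats 1000000

open scoped ComplexConjugate

namespace Cfsg.Agent.CycOne

open CharBasic BlockBasic

universe u

/-- `σ` fixes the roots of unity of order dividing `n`. -/
def FixesRoots (n : ℕ) (σ : ℂ ≃+* ℂ) : Prop := ∀ z : ℂ, z ^ n = 1 → σ z = z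

theorem fixesRoots_of_exp {n : ℕ} (hn : n ≠ 0) {σ : ℂ ≃+* ℂ}
    (h : σ (Complex.exp (2 * Real.pi * Complex.I / n)) = Complex.exp (2 * Real.pi * Complex.I / n)) :
    FixesRoots n σ := fun z hz => by
  haveI : NeZero n := ⟨hn⟩
  obtain ⟨i, -, rfl⟩ := (Complex.isPrimitiveRoot_exp n hn).eq_pow_of_pow_eq_one hz
  rw [map_pow, h]

theorem fixesRoots_symm {n : ℕ} {σ : ℂ ≃+* ℂ} (h : FixesRoots n σ) : FixesRoots n σ.symm :=
  fun z hz => by conv_lhs => rw [← h z hz]; rw [RingEquiv.symm_apply_apply]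

/-- The image of a character. -/
noncomputable def galIrr {K : Type u} [Group K] [Finite K] (σ : ℂ ≃+* ℂ) (χ : IrrCharacter K) :
    IrrCharacter K :=
  ⟨fun g => σ ((χ : K → ℂ) g), H43.aut_irr σ χ.2⟩

theorem galIrr_apply {K : Type u} [Group K] [Finite K] (σ : ℂ ≃+* ℂ) (χ : IrrCharacter K) (g : K) :
    (galIrr σ χ : K → ℂ) g = σ ((χ : K → ℂ) g) := rfl

theorem galIrr_symm_galIrr {K : Type u} [Group K] [Finite K] (σ : ℂ ≃+* ℂ) (χ : IrrCharacter K) :
    galIrr σ.symm (galIrr σ χ) = χ :=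
  Subtype.ext (funext fun g => by simp [galIrr_apply])

theorem galIrr_apply_of_fixes {K : Type u} [Group K] [Finite K] {n : ℕ} {σ : ℂ ≃+* ℂ}
    (hσ : FixesRoots n σ) (χ : IrrCharacter K) {g : K} (hg : orderOf g ∣ n) :
    (galIrr σ χ : K → ℂ) g = (χ : K → ℂ) g := by
  rw [galIrr_apply]
  exact H43.aut_eq_on_value (H43.gen_of_char (IsIrr.isCharacter χ.2)) g σ (RingEquiv.refl ℂ)
    fun z hz => hσ z (by obtain ⟨k, rfl⟩ := hg; rw [pow_mul, hz, one_pow])

variable {G : Type u} [Group G] [Fintype G] {p : ℕ} [hp : Fact p.Prime]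
variable (P : Sylow p G) (hP : Nat.card P = p)

include hP

theorem card_eq_mul : Nat.card G = p * (Nat.card G / p) :=
  (Nat.mul_div_cancel' (hP ▸ Subgroup.card_subgroup_dvd_card (P : Subgroup G))).symm

theorem not_dvd_quot : ¬ p ∣ Nat.card G / p := by
  have h := P.not_dvd_index
  have h2 : Nat.card G = p * (P : Subgroup G).index := by
    conv_lhs => rw [← Subgroup.card_mul_index (P : Subgroup G)]
    rw [show Nat.card (P : Subgroup G) = p from hP]
  rwa [h2, Nat.mul_div_cancel_left _ hp.out.pos]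

theorem orderOf_dvd_quot {g : G} (hg : ¬ p ∣ orderOf g) : orderOf g ∣ Nat.card G / p := by
  have h : orderOf g ∣ p * (Nat.card G / p) := card_eq_mul P hP ▸ orderOf_dvd_natCard g
  exact ((hp.out.coprime_iff_not_dvd).2 hg).symm.dvd_of_dvd_mul_left h

/-- A singular element is conjugate into the centralizer. -/
theorem exists_conj_mem_cen {g : G} (hg : p ∣ orderOf g) : ∃ x : G, x * g * x⁻¹ ∈ cen P := by
  obtain ⟨k, hk⟩ := exists_orderOf_pPart (p := p) g
  obtain ⟨Q, hQ⟩ := (IsPGroup.of_card (p := p) (n := k)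
    (G := Subgroup.zpowers (pPart (p := p) g)) (by rw [Nat.card_zpowers, hk])).exists_le_sylow
  obtain ⟨x, hx⟩ := MulAction.exists_smul_eq G Q P
  refine ⟨x, ?_⟩
  have hmem : x * pPart (p := p) g * x⁻¹ ∈ (P : Subgroup G) := by
    rw [← hx]
    exact Subgroup.smul_mem_pointwise_smul _ (MulAut.conj x) _ (hQ (Subgroup.mem_zpowers _))
  have hne : x * pPart (p := p) g * x⁻¹ ≠ 1 := fun h => (pPart_eq_one_iff g).1 (conj_eq_one_iff.1 h) hg
  rw [cen_eq_centralizer P hP hmem hne, Subgroup.mem_centralizer_singleton_iff]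
  have h : Commute g (pPart (p := p) g) := by
    conv_lhs => rw [← pPart_mul_pReg (p := p) g]
    exact (Commute.refl _).mul_left (commute_pPart_pReg g).symm
  simpa using (h.map (MulAut.conj x).toMonoidHom).eq

variable {σ : ℂ ≃+* ℂ}

theorem gal_regular (hσ : FixesRoots (Nat.card G / p) σ) (χ : IrrCharacter G) {g : G}
    (hg : ¬ p ∣ orderOf g) : σ ((χ : G → ℂ) g) = (χ : G → ℂ) g :=
  galIrr_apply_of_fixes hσ χ (orderOf_dvd_quot P hP hg)

variable [Fintype (cen P)]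

theorem gal_regular_cen (hσ : FixesRoots (Nat.card G / p) σ) (φ : IrrCharacter (cen P)) {c : cen P}
    (hc : ¬ p ∣ orderOf c) : σ ((φ : cen P → ℂ) c) = (φ : cen P → ℂ) c :=
  galIrr_apply_of_fixes hσ φ (by
    rw [← Subgroup.orderOf_coe]
    exact orderOf_dvd_quot P hP (by rw [Subgroup.orderOf_coe]; exact hc))

theorem gal_triv (hσ : FixesRoots (Nat.card G / p) σ) {φ : IrrCharacter (cen P)}
    (hφ : IsTriv (sylC P) φ) (c : cen P) : σ ((φ : cen P → ℂ) c) = (φ : cen P → ℂ) c := by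
  rw [(isCS P hP).apply_eq_pReg hφ c]
  exact gal_regular_cen P hP hσ φ (not_dvd_orderOf_pReg c)

theorem bs_gal (hσ : FixesRoots (Nat.card G / p) σ) (ψ : IrrCharacter (cen P)) :
    bs P hP (galIrr σ ψ) = bs P hP ψ :=
  bs_eq_of_regular P hP (isTriv_bs P hP ψ) fun s hs => by
    rw [galIrr_apply, gal_regular_cen P hP hσ ψ hs, bs_regular P hP ψ hs]

theorem cMult_gal (χ : IrrCharacter G) (ψ : IrrCharacter (cen P)) :
    cMult P (galIrr σ χ) (galIrr σ ψ) = cMult P χ ψ := by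
  have h : classInner (fun c : cen P => (galIrr σ χ : G → ℂ) c) (galIrr σ ψ : cen P → ℂ) =
      σ (classInner (fun c : cen P => (χ : G → ℂ) c) (ψ : cen P → ℂ)) := by
    simp only [classInner_def, map_mul, map_inv₀, map_natCast, map_sum, galIrr_apply]
    congr 1
    refine Finset.sum_congr rfl fun c _ => ?_
    congr 1
    have h1 := conj_apply_eq_inv (galIrr σ ψ) c
    simp only [galIrr_apply] at h1
    rw [h1, conj_apply_eq_inv ψ c]
  rw [cMult_spec, cMult_spec, map_natCast] at h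
  exact_mod_cast h

theorem vec_gal (hσ : FixesRoots (Nat.card G / p) σ) (χ : IrrCharacter G)
    (ψ : IrrCharacter (cen P)) : vec P hP (galIrr σ χ) (galIrr σ ψ) = vec P hP χ ψ := by
  rw [vec, vec, bs_gal P hP hσ ψ, cMult_gal P hP]
  congr 2
  conv_lhs => rw [show bs P hP ψ = galIrr σ (bs P hP ψ) from
    Subtype.ext (funext fun c => (gal_triv P hP hσ (isTriv_bs P hP ψ) c).symm)]
  exact cMult_gal P hP χ _

theorem gal_mem_fam (hσ : FixesRoots (Nat.card G / p) σ) {θ ψ : IrrCharacter (cen P)}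
    (hθ : IsTriv (sylC P) θ) (hψ : ψ ∈ fam P hP θ) : galIrr σ ψ ∈ fam P hP θ := by
  refine (mem_fam P hP).2 ⟨(bs_gal P hP hσ ψ).trans ((mem_fam P hP).1 hψ).1, fun h => ?_⟩
  refine ((mem_fam P hP).1 hψ).2 ?_
  rw [← galIrr_symm_galIrr σ ψ, h]
  exact Subtype.ext (funext fun c => gal_triv P hP (fixesRoots_symm hσ) hθ c)

/-- Any two members of the family are carried to each other. -/
theorem exists_gal_fam {θ ψ ψ' : IrrCharacter (cen P)} (hθ : IsTriv (sylC P) θ)
    (hψ : ψ ∈ fam P hP θ) (hψ' : ψ' ∈ fam P hP θ) :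
    ∃ σ : ℂ ≃+* ℂ, FixesRoots (Nat.card G / p) σ ∧ galIrr σ ψ = ψ' := by
  set m := Nat.card G / p with hm
  have hdec : ∀ η ∈ fam P hP θ, (isCS P hP).tw ((isCS P hP).wt η) θ = η ∧
      (isCS P hP).wt η ≠ trivialIrr := fun η hη => by
    have h1 := (isCS P hP).tw_wt_base η
    rw [show (isCS P hP).base η = θ from ((mem_fam P hP).1 hη).1] at h1
    refine ⟨h1, fun e => ((mem_fam P hP).1 hη).2 ?_⟩
    rw [e] at h1
    exact h1.symm.trans (Subtype.ext (funext fun k => one_mul _))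
  obtain ⟨hl, hlne⟩ := hdec ψ hψ
  obtain ⟨hl', hlne'⟩ := hdec ψ' hψ'
  set l := (isCS P hP).wt ψ
  set l' := (isCS P hP).wt ψ'
  obtain ⟨x₀, hx₀⟩ : ∃ x : sylC P, x ≠ 1 := by
    have : Nontrivial (sylC P) := Finite.one_lt_card_iff_nontrivial.1
      ((isCS P hP).card_eq.symm ▸ hp.out.one_lt)
    exact exists_ne 1
  haveI : NeZero p := ⟨hp.out.ne_zero⟩
  have hprim : IsPrimitiveRoot ((l : sylC P → ℂ) x₀) p := by
    refine IsPrimitiveRoot.iff_orderOf.2 (orderOf_eq_prime ((isCS P hP).lam_pow_card l x₀) ?_)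
    exact (isCS P hP).lam_ne_one hlne hx₀
  obtain ⟨j, -, hj⟩ := hprim.eq_pow_of_pow_eq_one ((isCS P hP).lam_pow_card l' x₀)
  have hjp : ¬ p ∣ j := fun hd => (isCS P hP).lam_ne_one hlne' hx₀ (by
    rw [← hj]; exact (hprim.pow_eq_one_iff_dvd j).2 hd)
  have hcop : Nat.Coprime m p :=
    ((hp.out.coprime_iff_not_dvd).2 (not_dvd_quot P hP)).symm
  obtain ⟨k, hk1, hk2⟩ := Nat.chineseRemainder hcop 1 j
  have hm0 : m ≠ 0 := fun h0 => (Nat.card_pos (α := G)).ne' (by rw [card_eq_mul P hP, ← hm, h0, mul_zero])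
  have hkc : k.Coprime (m * p) := by
    refine Nat.Coprime.mul_right ?_ ?_
    · rw [Nat.coprime_iff_gcd_eq_one, hk1.gcd_eq, Nat.gcd_one_left]
    · refine ((hp.out.coprime_iff_not_dvd).2 fun hd => hjp ?_).symm
      exact (Nat.modEq_zero_iff_dvd).1 (hk2.symm.trans ((Nat.modEq_zero_iff_dvd).2 hd))
  obtain ⟨σ, hσ⟩ := H43.exists_aut_pow (mul_ne_zero hm0 hp.out.ne_zero) hkc
  have hfix : FixesRoots m σ := fun z hz => by
    rw [hσ z (by rw [pow_mul, hz, one_pow]), pow_eq_pow_mod k hz, hk1, ← pow_eq_pow_mod 1 hz,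
      pow_one]
  refine ⟨σ, hfix, ?_⟩
  have hlam : ∀ x : sylC P, σ ((l : sylC P → ℂ) x) = (l' : sylC P → ℂ) x := by
    intro x
    obtain ⟨i, rfl⟩ : ∃ i : ℕ, x₀ ^ i = x := by
      haveI : Fact (Nat.card (sylC P)).Prime := ⟨(isCS P hP).card_eq.symm ▸ hp.out⟩
      exact (Submonoid.mem_powers_iff x x₀).1 (mem_powers_of_prime_card rfl hx₀)
    have hpow : ∀ L : IrrCharacter (sylC P), (L : sylC P → ℂ) (x₀ ^ i) =
        (L : sylC P → ℂ) x₀ ^ i := fun L => by
      obtain ⟨f, hf⟩ := (isCS P hP).exists_hom L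
      simp [hf]
    rw [hpow, hpow, map_pow, hσ _ (by rw [mul_comm m p, pow_mul, (isCS P hP).lam_pow_card, one_pow]),
      ← hj, pow_eq_pow_mod k ((isCS P hP).lam_pow_card l x₀), hk2,
      ← pow_eq_pow_mod j ((isCS P hP).lam_pow_card l x₀)]
  refine Subtype.ext (funext fun c => ?_)
  rw [galIrr_apply, ← hl, ← hl', (isCS P hP).tw_apply, (isCS P hP).tw_apply, map_mul, hlam,
    gal_triv P hP hfix hθ]

variable [Fintype (nor P)] {M : Ideal AlgInt} {B : Set (IrrCharacter G)} {θ : IrrCharacter (cen P)}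

/-- The members outside the exceptional family are fixed. -/
theorem gal_out (S : BlockShape P hP B θ) (hM : IsPModular p M)
    (hBP : IsDefectGroup p M B (P : Subgroup G)) (hθ : IsTriv (sylC P) θ)
    (hind : IsInducedBlock M (cen P) (blockOf M (θ : cen P → ℂ)) B)
    (hσ : FixesRoots (Nat.card G / p) σ) {χ : IrrCharacter G} (hχ : χ ∈ B) (hχY : χ ∉ S.Y) :
    galIrr σ χ = χ := by
  refine Subtype.ext (funext fun g => ?_)
  by_cases hg : p ∣ orderOf g
  swap
  · exact gal_regular P hP hσ χ hg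
  obtain ⟨x, hx⟩ := exists_conj_mem_cen P hP hg
  let c : cen P := ⟨x * g * x⁻¹, hx⟩
  have hc : p ∣ orderOf c := by
    rw [← Subgroup.orderOf_coe, show (c : G) = MulAut.conj x g from rfl, MulEquiv.orderOf_eq]
    exact hg
  have h := singular_formula P hP hM hBP hθ hind hχ (S.vec_out χ hχ hχY) hc
  have h' := congrArg σ h
  simp only [map_mul, map_natCast, map_neg, map_intCast, map_sum, gal_triv P hP hσ hθ] at h'
  rw [← h] at h'
  have := mul_left_cancel₀ (Nat.cast_ne_zero.2 (Nat.card_pos (α := stab P θ)).ne') h'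
  rw [galIrr_apply, ← IsIrr.isClassFunction χ.2 g x]
  exact this

/-- The exceptional family is carried to itself. -/
theorem gal_in (S : BlockShape P hP B θ) (hM : IsPModular p M)
    (hBP : IsDefectGroup p M B (P : Subgroup G)) (hθ : IsTriv (sylC P) θ)
    (hind : IsInducedBlock M (cen P) (blockOf M (θ : cen P → ℂ)) B)
    (hσ : FixesRoots (Nat.card G / p) σ) {ψ : IrrCharacter (cen P)} (hψ : ψ ∈ fam P hP θ) :
    galIrr σ (S.ζ ψ) = S.ζ (galIrr σ ψ) := by
  have hv := vec_gal P hP hσ (S.ζ ψ) ψ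
  rw [S.vec_self ψ hψ] at hv
  have hψ' := gal_mem_fam P hP hσ hθ hψ
  have hne : vec P hP (galIrr σ (S.ζ ψ)) (galIrr σ ψ) ≠ 0 := by
    rw [hv]; rcases S.δ_sign with h | h <;> simp [h]
  have hB : galIrr σ (S.ζ ψ) ∈ B := by_contra fun h => hne (vec_eq_zero_off P hP hM hind hψ' h)
  have hY : galIrr σ (S.ζ ψ) ∈ S.Y := by_contra fun h => by
    have h2 := gal_out P hP S hM hBP hθ hind (fixesRoots_symm hσ) hB h
    rw [galIrr_symm_galIrr] at h2
    exact h (h2 ▸ S.ζ_mem ψ hψ)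
  by_contra h
  exact hne (S.vec_other _ hY _ hψ' (Ne.symm h))

end Cfsg.Agent.CycOne
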