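import Cfsg.Agent.CycOne.Count
import Cfsg.Agent.BlockBasic.BrauerCorr
import Cfsg.Agent.CharBasic.Complete

/-!
# The characters of degree prime to `p` and the normalizer of a Sylow subgroup of order `p`
-/

set_option linter.unusedSectionVars false
set_option linter.style.haveILetI false
set_option maxHeartbeats 1000000

namespace Cfsg.Agent.CycOne

open CharBasic BlockBasic

universe u

variable {G : Type u} [Group G] [Fintype G] {p : ℕ} [hp : Fact p.Prime]

/-- `P` as a Sylow subgroup of its normalizer. -/
noncomputable def sylN (P : Sylow p G) : Sylow p (nor P) := P.subtype Subgroup.le_normalizer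

variable (P : Sylow p G)

variable [Fintype (nor P)]

theorem nor_sylN_top : nor (sylN P) = ⊤ := Subgroup.normalizer_eq_top_iff.2
  (inferInstanceAs ((P : Subgroup G).subgroupOf (nor P)).Normal)

theorem mem_cen_sylN (x : nor P) : x ∈ cen (sylN P) ↔ (x : G) ∈ cen P :=
  BlockBasic.coe_mem_centralizer_iff (P := (P : Subgroup G)) Subgroup.le_normalizer x

/-- The centralizers agree. -/
def cenEquiv : cen (sylN P) ≃* cen P where
  toFun x := ⟨((x : nor P) : G), (mem_cen_sylN P x).1 x.2⟩
  invFun c := ⟨⟨(c : G), cen_le_nor P c.2⟩, (mem_cen_sylN P _).2 c.2⟩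
  left_inv _ := rfl
  right_inv _ := rfl
  map_mul' _ _ := rfl

/-- The roots in the normalizer. -/
noncomputable def rootN (θ : IrrCharacter (cen P)) : IrrCharacter (cen (sylN P)) :=
  H83.irrComp (cenEquiv P) θ

theorem rootN_apply (θ : IrrCharacter (cen P)) (x : cen (sylN P)) :
    (rootN P θ : cen (sylN P) → ℂ) x = (θ : cen P → ℂ) (cenEquiv P x) := rfl

theorem rootN_bijective : Function.Bijective (rootN P) := by
  refine Function.bijective_iff_has_inverse.2
    ⟨fun φ => H83.irrComp (cenEquiv P).symm φ, fun θ => ?_, fun φ => ?_⟩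
  · exact Subtype.ext (funext fun c => congrArg (θ : cen P → ℂ) ((cenEquiv P).apply_symm_apply c))
  · exact Subtype.ext (funext fun c =>
      congrArg (φ : cen (sylN P) → ℂ) ((cenEquiv P).symm_apply_apply c))

theorem isTriv_rootN (θ : IrrCharacter (cen P)) :
    IsTriv (sylC (sylN P)) (rootN P θ) ↔ IsTriv (sylC P) θ := by
  constructor
  · intro h c hc
    have := h ((cenEquiv P).symm c) hc
    rwa [rootN_apply, rootN_apply, MulEquiv.apply_symm_apply, map_one] at this
  · intro h x hx
    rw [rootN_apply, rootN_apply, map_one]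
    exact h _ hx

theorem card_stab_rootN (θ : IrrCharacter (cen P)) :
    Nat.card (stab (sylN P) (rootN P θ)) = Nat.card (stab P θ) := by
  have hcc : ∀ (n : nor (sylN P)) (x : cen (sylN P)),
      cenEquiv P (cenConj (sylN P) n x) = cenConj P n.1 (cenEquiv P x) := fun n x =>
    Subtype.ext (by
      rw [cenConj_coe]
      show ((cenConj (sylN P) n x : cen (sylN P)) : nor P).1 = _
      rw [cenConj_coe]
      rfl)
  refine Nat.card_congr
    { toFun := fun s => ⟨s.1.1, Subtype.ext (funext fun c => ?_)⟩
      invFun := fun s => ⟨⟨s.1, nor_sylN_top P ▸ Subgroup.mem_top _⟩,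
        Subtype.ext (funext fun x => ?_)⟩
      left_inv := fun _ => rfl
      right_inv := fun _ => rfl }
  · have h := congrFun (congrArg Subtype.val ((mem_stab (sylN P)).1 s.2)) ((cenEquiv P).symm c)
    rw [cact_apply, rootN_apply, rootN_apply, hcc, MulEquiv.apply_symm_apply] at h
    rwa [cact_apply]
  · have h := congrFun (congrArg Subtype.val ((mem_stab P).1 s.2)) (cenEquiv P x)
    rw [cact_apply] at h
    rw [cact_apply, rootN_apply, rootN_apply, hcc]
    exact h

theorem idx_rootN (θ : IrrCharacter (cen P)) : idx (sylN P) (rootN P θ) = idx P θ := by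
  refine Nat.eq_of_mul_eq_mul_right (Nat.card_pos (α := cen P)) ?_
  rw [← card_stab, ← card_stab_rootN P θ, card_stab, Nat.card_congr (cenEquiv P).toEquiv]

variable (hP : Nat.card P = p) {M : Ideal AlgInt}

include hP

theorem card_sylN : Nat.card (sylN P) = p :=
  (Nat.card_congr (Subgroup.subgroupOfEquivOfLe (H := (P : Subgroup G)) (K := nor P)
    Subgroup.le_normalizer).toEquiv).trans hP

/-- Every degree of the normalizer is prime to `p`. -/
theorem not_dvd_degree_nor (hM : IsPModular p M) (η : IrrCharacter (nor P)) :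
    ¬ p ∣ charDegree (η : nor P → ℂ) := by
  intro hdvd
  letI : Fintype (cen (sylN P)) := Fintype.ofFinite _
  letI : Fintype (nor (sylN P)) := Fintype.ofFinite _
  have hB : IsPBlock M (blockOf M (η : nor P → ℂ)) := isPBlock_blockOf M η
  obtain ⟨g, hg⟩ := BlockBasic.exists_isDefectClass (p := p) hM hB
  have hD : IsDefectGroup p M (blockOf M (η : nor P → ℂ))
      (H35.sylImage (default : Sylow p (Subgroup.centralizer ({g} : Set (nor P))))) :=
    ⟨g, hg, default, rfl⟩
  haveI : ((P : Subgroup G).subgroupOf (nor P)).Normal := inferInstance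
  have hQ : IsPGroup p ((P : Subgroup G).subgroupOf (nor P)) := IsPGroup.of_card (n := 1) (by
    rw [pow_one]; exact card_sylN P hP)
  have hc := Subgroup.card_le_of_le (H35.le_defectGroup_of_normal hM hB hD _ hQ)
  rw [H35.card_defectGroup hM hB hD] at hc
  have hfac : (Nat.card (nor P)).factorization p = 1 := factorization_card (sylN P) (card_sylN P hP)
  have hd0 : blockDefect p (blockOf M (η : nor P → ℂ)) = 0 := by
    rw [blockOf_eq_singleton_iff hM η |>.2 ?_, blockDefect, Set.image_singleton, csInf_singleton]
    · have := hp.out.factorization_pos_of_dvd (charDegree_pos η).ne' hdvd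
      omega
    · intro h
      have h1 := hp.out.factorization_pos_of_dvd (charDegree_pos η).ne' hdvd
      have hne : Nat.card (nor P) / charDegree (η : nor P → ℂ) ≠ 0 :=
        (Nat.div_pos (Nat.le_of_dvd Nat.card_pos (BlockBasic.charDegree_dvd η))
          (charDegree_pos η)).ne'
      have h2 := hp.out.factorization_pos_of_dvd hne h
      rw [Nat.factorization_div (BlockBasic.charDegree_dvd η), Finsupp.tsub_apply, hfac] at h2
      omega
  rw [hd0, pow_zero] at hc
  have := hp.out.two_le
  rw [show Nat.card ((P : Subgroup G).subgroupOf (nor P)) = p from card_sylN P hP] at hc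
  omega

/-- The characters of degree prime to `p` correspond in number to the classes of the normalizer. -/
theorem card_pprime_eq_classes (hM : IsPModular p M) :
    Nat.card {χ : IrrCharacter G // ¬ p ∣ charDegree (χ : G → ℂ)} =
      Nat.card (ConjClasses (nor P)) := by
  classical
  letI : Fintype (cen P) := Fintype.ofFinite _
  letI : Fintype (cen (sylN P)) := Fintype.ofFinite _
  letI : Fintype (nor (sylN P)) := Fintype.ofFinite _
  have hN : Nat.card (nor (sylN P)) = Nat.card (nor P) := by
    rw [show nor (sylN P) = ⊤ from nor_sylN_top P]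
    exact Subgroup.card_top
  have hG := card_pprime_mul P hP hM
  have hK := card_pprime_mul (sylN P) (card_sylN P hP) hM
  rw [hN, Nat.card_congr (Equiv.subtypeUnivEquiv fun η => not_dvd_degree_nor P hP hM η),
    card_irrCharacter] at hK
  refine Nat.eq_of_mul_eq_mul_right (Nat.card_pos (α := nor P)) (hG.trans (Eq.trans ?_ hK.symm))
  refine Finset.sum_bij (fun θ _ => rootN P θ) (fun θ hθ => ?_) (fun a _ b _ h => ?_)
    (fun φ hφ => ?_) (fun θ _ => ?_)
  · exact Finset.mem_filter.2 ⟨Finset.mem_univ _, (isTriv_rootN P θ).2 (Finset.mem_filter.1 hθ).2⟩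
  · exact (rootN_bijective P).1 h
  · obtain ⟨θ, rfl⟩ := (rootN_bijective P).2 φ
    exact ⟨θ, Finset.mem_filter.2 ⟨Finset.mem_univ _,
      (isTriv_rootN P θ).1 (Finset.mem_filter.1 hφ).2⟩, rfl⟩
  · rw [rootWeight, rootWeight, idx_rootN, card_stab_rootN]

end Cfsg.Agent.CycOne
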