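import Cfsg.Agent.CycOne.Stab
import Cfsg.Agent.CharInduce.Correspondence
import Cfsg.Agent.H35.Extend

/-!
# The characters of the normalizer above a character of the centralizer

The inertia group is cyclic modulo the centralizer, so there are exactly as many as its index, each
with multiplicity one.
-/

set_option linter.unusedSectionVars false
set_option linter.style.haveILetI false
set_option maxHeartbeats 1000000

open scoped ComplexConjugate

namespace Cfsg.Agent.CycOne

open CharBasic BlockBasic CharInduce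

universe u

section general

variable {K : Type u} [Group K] [Fintype K] {N : Subgroup K} [N.Normal] [Fintype N]

/-- If one character above `θ` has multiplicity one and the quotient is commutative, then all
have, and their number is the index of `N` in the inertia group. -/
theorem card_above_of_mult_one (hcomm : ∀ a b : K ⧸ N, a * b = b * a) {θ : N → ℂ}
    (hθ : IsIrrCharacter N θ) {ν : K → ℂ} (hν : IsIrrCharacter K ν)
    (h1 : classInner (fun n : N => ν n) θ = 1) [DecidableEq (IrrCharacter K)] :
    ∃ E : Finset (IrrCharacter K), E.card * Nat.card N = Nat.card (inertia N θ) ∧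
      ∀ μ ∈ E, classInner (fun n : N => (μ : K → ℂ) n) θ = 1 := by
  classical
  letI : Fintype (K ⧸ N) := Fintype.ofFinite _
  haveI : IsMulCommutative (K ⧸ N) := ⟨⟨hcomm⟩⟩
  let E := Finset.univ.filter fun μ : IrrCharacter K =>
    classInner (fun n : N => (μ : K → ℂ) n) θ ≠ 0
  have hνcl := CharBasic.IsIrr.isClassFunction hν
  have hmult : ∀ μ ∈ E, classInner (fun n : N => (μ : K → ℂ) n) θ = 1 := by
    intro μ hμ
    have hμ' := (Finset.mem_filter.1 hμ).2
    have havg := clifford_avg N hν hθ (by rw [h1]; exact one_ne_zero)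
    rw [h1, one_smul] at havg
    have hne : classInner (fun n : N => (μ : K → ℂ) n) (fun n : N => ν n) ≠ 0 := by
      intro h0
      have h2 : classInner (fun n : N => (μ : K → ℂ) n) (∑ x : K, conjFun N θ x) = 0 := by
        rw [← havg, CharBasic.classInner_smul_right, h0, mul_zero]
      rw [CharBasic.classInner_sum_right] at h2
      simp only [classInner_res_conjFun N (CharBasic.IsIrr.isClassFunction μ.2), Finset.sum_const,
        Finset.card_univ, nsmul_eq_mul, mul_eq_zero] at h2
      exact h2.elim (fun h => Fintype.card_ne_zero (Nat.cast_eq_zero.1 h)) hμ'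
    have hind : ∀ x : K, (∑ β : IrrCharacter (K ⧸ N), (β : K ⧸ N → ℂ) (x : K ⧸ N)) =
        if x ∈ N then (Nat.card (K ⧸ N) : ℂ) else 0 := fun x => by
      have h := sum_degree_mul_apply (G := K ⧸ N) (x : K ⧸ N)
      simp only [fun β : IrrCharacter (K ⧸ N) => H85.apply_one_eq_one_of_comm β, one_mul] at h
      rw [h]
      exact if_congr (QuotientGroup.eq_one_iff x) rfl rfl
    obtain ⟨β, hβ⟩ : ∃ β : IrrCharacter (K ⧸ N), classInner (μ : K → ℂ)
        (fun x : K => (β : K ⧸ N → ℂ) (x : K ⧸ N) * ν x) ≠ 0 := by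
      by_contra hno
      push Not at hno
      apply hne
      have h3 : ∑ β : IrrCharacter (K ⧸ N), classInner (μ : K → ℂ)
          (fun x : K => (β : K ⧸ N → ℂ) (x : K ⧸ N) * ν x) = 0 :=
        Finset.sum_eq_zero fun β _ => hno β
      simp only [classInner_def, map_mul, ← Finset.mul_sum] at h3
      rw [Finset.sum_comm] at h3
      simp only [mul_comm ((μ : K → ℂ) _) _, ← Finset.sum_mul, ← map_sum, hind] at h3
      have h4 := (mul_eq_zero.1 h3).resolve_left (inv_ne_zero (card_ne_zero_complex K))
      rw [classInner_def]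
      refine mul_eq_zero_of_right _ ?_
      have hQ : (Nat.card (K ⧸ N) : ℂ) ≠ 0 := card_ne_zero_complex _
      refine mul_left_cancel₀ hQ ?_
      rw [mul_zero, ← h4, Finset.mul_sum]
      refine Eq.trans ?_ (Finset.sum_subset (Finset.subset_univ (Finset.univ.map
        (Function.Embedding.subtype (· ∈ N)))) fun x _ hx => ?_)
      · rw [Finset.sum_map]
        refine Finset.sum_congr rfl fun n _ => ?_
        rw [Function.Embedding.coe_subtype, if_pos n.2, Complex.conj_natCast]
        ring
      · rw [if_neg fun h => hx (Finset.mem_map.2 ⟨⟨x, h⟩, Finset.mem_univ _, rfl⟩)]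
        simp
    obtain ⟨l, hl⟩ := IsChar.exists_hom_of_degree_one (CharBasic.IsIrr.isCharacter β.2)
      (H85.apply_one_eq_one_of_comm β)
    have hirr := isIrr_hom_mul hν (l.comp (QuotientGroup.mk' N))
    have heq : (μ : K → ℂ) = fun x : K => (β : K ⧸ N → ℂ) (x : K ⧸ N) * ν x := by
      have hirr' : IsIrrCharacter K (fun x : K => (β : K ⧸ N → ℂ) (x : K ⧸ N) * ν x) := by
        simpa [hl] using hirr
      by_contra hne'
      exact hβ (classInner_irr_of_ne μ.2 hirr' hne')
    rw [← h1]
    congr 1
    funext n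
    rw [heq]
    simp only [(QuotientGroup.eq_one_iff (n : K)).2 n.2, H85.apply_one_eq_one_of_comm β, one_mul]
  refine ⟨E, ?_, hmult⟩
  have hI : indFun N θ = ∑ μ ∈ E, (μ : K → ℂ) := by
    rw [classFunction_expansion (isClassFunction_indFun N θ)]
    refine Eq.trans ?_ (Finset.sum_congr rfl (g := fun μ : IrrCharacter K => (μ : K → ℂ))
      (f := fun μ : IrrCharacter K => classInner (indFun N θ) (μ : K → ℂ) • (μ : K → ℂ))
      fun μ hμ => ?_)
    · refine (Finset.sum_subset (Finset.subset_univ E) fun μ _ hμ => ?_).symm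
      have h0 : classInner (fun n : N => (μ : K → ℂ) n) θ = 0 :=
        by_contra fun h => hμ (Finset.mem_filter.2 ⟨Finset.mem_univ _, h⟩)
      rw [classInner_indFun_left N θ _ (CharBasic.IsIrr.isClassFunction μ.2), ← conj_classInner, h0,
        map_zero, zero_smul]
    · rw [classInner_indFun_left N θ _ (CharBasic.IsIrr.isClassFunction μ.2), ← conj_classInner,
        hmult μ hμ, map_one, one_smul]
  have hnorm1 : classInner (indFun N θ) (indFun N θ) = (E.card : ℂ) := by
    conv_lhs => rw [hI]
    rw [classInner_sum_left, Finset.sum_congr rfl fun μ hμ => ?_, Finset.sum_const, nsmul_eq_mul,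
      mul_one]
    rw [CharBasic.classInner_sum_right, Finset.sum_eq_single μ
      (fun ν' _ hne => classInner_irr_of_ne μ.2 ν'.2 fun h => hne (Subtype.ext h).symm)
      (fun h => absurd hμ h)]
    exact classInner_irr_self μ.2
  have hnorm2 : classInner (indFun N θ) (indFun N θ) =
      (Nat.card N : ℂ)⁻¹ * (Nat.card (inertia N θ) : ℂ) := by
    rw [classInner_indFun_left N θ _ (isClassFunction_indFun N θ), indFun_res_normal,
      CharBasic.classInner_smul_right, CharBasic.classInner_sum_right, map_inv₀, Complex.conj_natCast]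
    congr 1
    rw [Finset.sum_congr rfl (g := fun x : K => if x ∈ inertia N θ then (1 : ℂ) else 0)
      (fun x _ => ?_), Finset.sum_boole, Nat.card_eq_fintype_card, Fintype.card_subtype]
    split_ifs with hx
    · rw [show conjFun N θ x = θ from hx, classInner_irr_self hθ]
    · exact classInner_irr_of_ne hθ (isIrrCharacter_conjFun N hθ x) (Ne.symm hx)
  rw [hnorm1, eq_inv_mul_iff_mul_eq₀ (card_ne_zero_complex N)] at hnorm2
  rw [mul_comm]
  exact_mod_cast hnorm2

end general

variable {G : Type u} [Group G] [Fintype G] {p : ℕ} [hp : Fact p.Prime]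
variable (P : Sylow p G) (hP : Nat.card P = p)
variable [Fintype (cen P)] [Fintype (nor P)]

include hP

theorem exists_over {θ : IrrCharacter (cen P)} (hθ : IsTriv (sylC P) θ) :
    ∃ E : Finset (IrrCharacter (nor P)), E.card = idx P θ ∧ ∀ μ ∈ E,
      (∀ u : nor P, (u : G) ∈ (P : Subgroup G) → (μ : nor P → ℂ) u = (μ : nor P → ℂ) 1) ∧
      (μ : nor P → ℂ) 1 * (Nat.card (stab P θ) : ℂ) =
        (Nat.card (nor P) : ℂ) * (θ : cen P → ℂ) 1 ∧
      ∀ c : cen P, (μ : nor P → ℂ) ⟨c, cen_le_nor P c.2⟩ * (Nat.card (stab P θ) : ℂ) =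
        ∑ n : nor P, (θ : cen P → ℂ) (cenConj P n c) := by
  classical
  letI : Fintype (cenN P) := Fintype.ofFinite _
  let e := Subgroup.subgroupOfEquivOfLe (cen_le_nor P)
  let θ' : IrrCharacter (cenN P) := H83.irrComp e θ
  have hconj : ∀ (n : nor P) (c : cenN P),
      conjFun (cenN P) (θ' : cenN P → ℂ) n c = (θ : cen P → ℂ) (cenConj P n (e c)) :=
    fun n c => congrArg (θ : cen P → ℂ) (Subtype.ext (cenConj_coe P n (e c)).symm)
  have hI : inertia (cenN P) (θ' : cenN P → ℂ) = stab P θ := by
    ext n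
    rw [mem_inertia, mem_stab]
    constructor
    · intro h
      refine Subtype.ext (funext fun c => ?_)
      obtain ⟨c, rfl⟩ := e.surjective c
      rw [cact_apply, ← hconj, h]
      rfl
    · intro h
      funext c
      rw [hconj, ← cact_apply, h]
      rfl
  -- cyclicity
  obtain ⟨ν, hν⟩ := H86.TraceQ.exists_hom P hP (ZMod p)
  set I := inertia (cenN P) (θ' : cenN P → ℂ) with hIdef
  have hle : cenN P ≤ I := CharInduce.le_inertia _ (CharBasic.IsIrr.isClassFunction θ'.2)
  haveI : ((cenN P).subgroupOf I).Normal := inferInstance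
  have hcyc : IsCyclic (I ⧸ (cenN P).subgroupOf I) := by
    let φ : I →* (ZMod p)ˣ := ν.toHomUnits.comp I.subtype
    have hker : φ.ker = (cenN P).subgroupOf I := by
      rw [show φ.ker = ν.toHomUnits.ker.subgroupOf I from rfl, hν]
    haveI : IsCyclic φ.range := inferInstance
    exact isCyclic_of_surjective ((QuotientGroup.quotientKerEquivRange φ).symm.trans
      (QuotientGroup.quotientMulEquivOfEq hker)).toMonoidHom (MulEquiv.surjective _)
  have hcomm : ∀ a b : nor P ⧸ cenN P, a * b = b * a := by
    let φ : nor P →* (ZMod p)ˣ := ν.toHomUnits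
    intro a b
    refine ((QuotientGroup.quotientMulEquivOfEq hν.symm).trans
      (QuotientGroup.quotientKerEquivRange φ)).injective ?_
    rw [map_mul, map_mul]
    exact Subtype.ext (mul_comm _ _)
  -- the extension
  let θ'' : IrrCharacter ((cenN P).subgroupOf I) :=
    H83.irrComp (Subgroup.subgroupOfEquivOfLe hle) θ'
  obtain ⟨d, ρ, hρ, hρe⟩ := θ''.2
  obtain ⟨χ0, hχ0, hres⟩ := H35.Extend.exists_extension_cyclic ρ (fun g m => by
    rw [hρe]
    exact congrFun (show conjFun (cenN P) (θ' : cenN P → ℂ) (g : nor P) = θ' from g.2)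
      (Subgroup.subgroupOfEquivOfLe hle m)) hcyc
  letI : Fintype I := Fintype.ofFinite _
  have hrt : resTo (cenN P) hle χ0 = (θ' : cenN P → ℂ) := funext fun n => by
    show χ0 ⟨(n : nor P), hle n.2⟩ = _
    exact (hres ⟨⟨(n : nor P), hle n.2⟩, n.2⟩).trans (congrFun hρe _)
  obtain ⟨hνirr, hνone, -⟩ := clifford_correspondence (cenN P) θ'.2 hle hχ0
    (by rw [hrt, classInner_irr_self θ'.2]; exact one_ne_zero)
  rw [hrt, classInner_irr_self θ'.2] at hνone
  obtain ⟨E, hEc, hE⟩ := card_above_of_mult_one hcomm θ'.2 hνirr hνone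
  refine ⟨E, ?_, fun μ hμ => ?_⟩
  · rw [← hIdef, hI, card_stab, card_cenN] at hEc
    exact Nat.eq_of_mul_eq_mul_right Nat.card_pos hEc
  have havg := clifford_avg (cenN P) μ.2 θ'.2 (by rw [hE μ hμ]; exact one_ne_zero)
  rw [hE μ hμ, one_smul, ← hIdef, hI] at havg
  have hval : ∀ c : cen P, (μ : nor P → ℂ) ⟨c, cen_le_nor P c.2⟩ * (Nat.card (stab P θ) : ℂ) =
      ∑ n : nor P, (θ : cen P → ℂ) (cenConj P n c) := by
    intro c
    have h := congrFun havg (e.symm c)
    simp only [Pi.smul_apply, smul_eq_mul, Finset.sum_apply, hconj, MulEquiv.apply_symm_apply] at h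
    rw [mul_comm]
    exact h
  have hdeg : ∀ c : cen P, c ∈ sylC P →
      (μ : nor P → ℂ) ⟨c, cen_le_nor P c.2⟩ * (Nat.card (stab P θ) : ℂ) =
        (Nat.card (nor P) : ℂ) * (θ : cen P → ℂ) 1 := by
    intro c hc
    rw [hval c, Finset.sum_congr rfl fun n _ => hθ _ (cenConj_mem_sylC P n hc), Finset.sum_const,
      nsmul_eq_mul, Nat.card_eq_fintype_card, Finset.card_univ]
  refine ⟨fun u hu => ?_, hdeg 1 (sylC P).one_mem, hval⟩
  exact mul_right_cancel₀ (Nat.cast_ne_zero.2 (Nat.card_pos (α := stab P θ)).ne')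
    ((hdeg ⟨u, le_cen P hP hu⟩ hu).trans (hdeg 1 (sylC P).one_mem).symm)

end Cfsg.Agent.CycOne
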