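import Cfsg.Agent.H86.FrameTraces
import Mathlib.RepresentationTheory.Basic

/-!
# Trace functions attached to simple representations of the normalizer

Each simple representation of `N` trivial on `P` gives a simple module of the group; pairwise
non-isomorphic representations give pairwise non-isomorphic modules, and a central idempotent
acting as `1` on the representation through its part on the centralizer fixes the module.
-/

set_option linter.unusedSectionVars false
set_option linter.style.haveILetI false

namespace Cfsg.Agent.CycOne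

open MonoidAlgebra H86.TraceQ H86.SimpleTr

universe u v w

variable {G : Type u} [Group G] [Fintype G] {p : ℕ} [hp : Fact p.Prime]
variable {k : Type v} [Field k] [CharP k p]

section induced

variable (L : Frame G p) {U : Type w} [AddCommGroup U] [Module k U] (σ : L.N →* Module.End k U)

/-- Equivariant functions on the group. -/
def indSub : Submodule k (G → U) where
  carrier := {f | ∀ (n : L.N) (g : G), f ((n : G) * g) = σ n (f g)}
  add_mem' := fun hf hg n g => by simp [Pi.add_apply, hf n g, hg n g]
  zero_mem' := fun n g => by simp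
  smul_mem' := fun c f hf n g => by simp [Pi.smul_apply, hf n g]

/-- Right translation. -/
noncomputable def indRep : Representation k G (indSub L σ) where
  toFun a :=
    { toFun := fun f => ⟨fun g => f.1 (g * a), fun n g => by simp only [mul_assoc]; exact f.2 n _⟩
      map_add' := fun _ _ => rfl
      map_smul' := fun _ _ => rfl }
  map_one' := LinearMap.ext fun f => Subtype.ext (funext fun g => congrArg f.1 (mul_one g))
  map_mul' a b := LinearMap.ext fun f =>
    Subtype.ext (funext fun g => congrArg f.1 (mul_assoc g a b).symm)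

theorem indRep_apply (a : G) (f : indSub L σ) (g : G) : (indRep L σ a f).1 g = f.1 (g * a) := rfl

noncomputable instance : AddCommGroup (indRep L σ).asModule :=
  inferInstanceAs (AddCommGroup (indSub L σ))

instance [Module.Finite k U] : Module.Finite k (indRep L σ).asModule :=
  Module.Finite.equiv (indRep L σ).asModuleEquiv.symm

/-- The representation is seen in the induced module, outside the traces. -/
theorem hasQ_indRep [Fintype L.P] [Fintype L.H] [Nontrivial U]
    (hσ : ∀ n : L.N, (n : G) ∈ L.P → σ n = 1) : HasQ L (indRep L σ).asModule σ := by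
  classical
  let η₀ : U →ₗ[k] indSub L σ :=
    { toFun := fun x => ⟨fun g => if h : g ∈ L.N then σ ⟨g, h⟩ x else 0, fun n g => by
        beta_reduce
        by_cases hg : g ∈ L.N
        · rw [dif_pos hg, dif_pos (L.N.mul_mem n.2 hg), ← Module.End.mul_apply, ← map_mul]
          rfl
        · rw [dif_neg hg, dif_neg fun h => hg ((L.N.mul_mem_cancel_left n.2).1 h), map_zero]⟩
      map_add' := fun x y => Subtype.ext (funext fun g => by
        show (if h : g ∈ L.N then σ ⟨g, h⟩ (x + y) else 0) = _
        by_cases hg : g ∈ L.N <;> simp [hg])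
      map_smul' := fun c x => Subtype.ext (funext fun g => by
        show (if h : g ∈ L.N then σ ⟨g, h⟩ (c • x) else 0) = _
        by_cases hg : g ∈ L.N <;> simp [hg]) }
  have hact : ∀ (a : G) (f : indSub L σ),
      act k (indRep L σ).asModule a ((indRep L σ).asModuleEquiv.symm f) =
        (indRep L σ).asModuleEquiv.symm (indRep L σ a f) := fun a f => by
    rw [act_apply, Representation.single_smul, one_smul]
    rfl
  refine ⟨((indRep L σ).asModuleEquiv.symm.toLinearMap).comp η₀, fun n x => ?_, ?_⟩
  · show act k _ (n : G) ((indRep L σ).asModuleEquiv.symm (η₀ x)) = _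
    rw [hact]
    refine congrArg _ (Subtype.ext (funext fun g => ?_))
    rw [indRep_apply]
    show (if h : g * (n : G) ∈ L.N then σ ⟨g * (n : G), h⟩ x else 0) =
      if h : g ∈ L.N then σ ⟨g, h⟩ (σ n x) else 0
    by_cases hg : g ∈ L.N
    · rw [dif_pos hg, dif_pos (L.N.mul_mem hg n.2), ← Module.End.mul_apply, ← map_mul]
      rfl
    · rw [dif_neg hg, dif_neg fun h => hg ((L.N.mul_mem_cancel_right n.2).1 h)]
  · obtain ⟨x, hx⟩ := exists_ne (0 : U)
    refine ⟨x, fun ⟨w, hw⟩ => hx ?_⟩
    have h := congrArg (fun v => ((indRep L σ).asModuleEquiv v).1 1) hw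
    have e1 : ((indRep L σ).asModuleEquiv
        (((indRep L σ).asModuleEquiv.symm.toLinearMap).comp η₀ x)).1 1 = x := by
      show (if h : (1 : G) ∈ L.N then σ ⟨1, h⟩ x else 0) = x
      rw [dif_pos L.N.one_mem, show (⟨1, L.N.one_mem⟩ : L.N) = 1 from rfl, map_one,
        Module.End.one_apply]
    rw [e1, tau_apply] at h
    obtain ⟨f, rfl⟩ := (indRep L σ).asModuleEquiv.symm.surjective w
    simp only [hact, map_sum, LinearEquiv.apply_symm_apply, AddSubmonoidClass.coe_finsetSum,
      Finset.sum_apply, indRep_apply, one_mul] at h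
    rw [← h]
    have hconst : ∀ u : L.P, f.1 (u : G) = f.1 1 := fun u => by
      have := f.2 ⟨u, L.P_le u.2⟩ 1
      rwa [hσ ⟨u, L.P_le u.2⟩ u.2, Module.End.one_apply, mul_one] at this
    rw [Finset.sum_congr rfl fun u _ => hconst u, Finset.sum_const, Finset.card_univ,
      ← Nat.card_eq_fintype_card, L.card_P, ← Nat.cast_smul_eq_nsmul k, CharP.cast_eq_zero, zero_smul]

end induced

/-- Independent class functions on the regular elements fixed by a central idempotent. -/
theorem exists_traces_simple [IsAlgClosed k] (L : Frame G p) {ι : Type*} [Fintype ι]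
    [Fintype L.P] [Fintype L.H]
    (U : ι → Type w) [∀ i, AddCommGroup (U i)] [∀ i, Module k (U i)] [∀ i, Module.Finite k (U i)]
    [∀ i, Nontrivial (U i)]
    (σ : ∀ i, L.N →* Module.End k (U i)) (hσP : ∀ i (n : L.N), (n : G) ∈ L.P → σ i n = 1)
    (hirr : ∀ i (W : Submodule k (U i)), (∀ n, ∀ w ∈ W, σ i n w ∈ W) → W = ⊥ ∨ W = ⊤)
    (hdis : ∀ i j, i ≠ j → ∀ φ : U i →ₗ[k] U j, Equi L (σ i) (σ j) φ → φ = 0)
    {c : MonoidAlgebra k G} (hcc : c * c = c) (hcomm : ∀ x, c * x = x * c)
    (hCN : Subgroup.centralizer (L.P : Set G) ≤ L.N) (C : Finset L.N)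
    (hC : ∀ n : L.N, n ∈ C ↔ (n : G) ∈ Subgroup.centralizer (L.P : Set G))
    (hsum : ∀ i, ∑ n ∈ C, c.coeff (n : G) • σ i n = 1) :
    ∃ t : ι → G → k, (∀ i g x, t i (x * g * x⁻¹) = t i g) ∧
      LinearIndependent k (fun i (g : {g : G // ¬ p ∣ orderOf g}) => t i g) ∧
      ∀ i g, ∑ y, (c * single g 1).coeff y * t i y = t i g := by
  classical
  letI : Fintype L.N := Fintype.ofFinite _
  choose W A0 hsimp hSQ using fun i => exists_simple L (hσP i) (hasQ_indRep L (σ i) (hσP i))
  let S := fun i => W i ⧸ A0 i
  haveI hfin : ∀ i, Module.Finite k (S i) := fun i => by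
    haveI : Module.Finite k (W i) :=
      Module.Finite.of_injective ((W i).subtype.restrictScalars k) (W i).subtype_injective
    exact Module.Finite.of_surjective ((A0 i).mkQ.restrictScalars k) (A0 i).mkQ_surjective
  have hne : ∀ i j, i ≠ j → IsEmpty (S i ≃ₗ[MonoidAlgebra k G] S j) := by
    refine fun i j hij => ⟨fun f => ?_⟩
    haveI := hsimp j
    obtain ⟨φ, hφ0, hφ⟩ :=
      hom_ne_zero_of_hasQ L (hσP j) (hirr j) (hσP i) (hSQ j) ((hSQ i).map L f)
    exact hφ0 (hdis i j hij φ hφ)
  have hC' : ∀ g : G, (∀ u ∈ L.P, u * g * u⁻¹ = g) ↔ ∃ n ∈ C, (n : G) = g := by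
    intro g
    constructor
    · intro h
      have hg : g ∈ Subgroup.centralizer (L.P : Set G) :=
        Subgroup.mem_centralizer_iff.2 fun u hu => mul_inv_eq_iff_eq_mul.1 (h u hu)
      exact ⟨⟨g, hCN hg⟩, (hC _).2 hg, rfl⟩
    · rintro ⟨n, hn, rfl⟩ u hu
      exact mul_inv_eq_iff_eq_mul.2 (Subgroup.mem_centralizer_iff.1 ((hC n).1 hn) u hu)
  have hact : ∀ i (v : S i), c • v = v := fun i v => by
    haveI := hsimp i
    exact smul_eq_self_of_hasQ L (hσP i) (hSQ i) hcc hcomm C hC' (hsum i) v
  refine ⟨fun i g => trFun k (S i) g, fun i g x => trFun_conj g x, ?_, fun i g => ?_⟩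
  · haveI := hsimp
    have hall := linearIndependent_trFun (G := G) (k := k) S hne
    rw [Fintype.linearIndependent_iff] at hall ⊢
    intro a ha
    refine hall a (funext fun g => ?_)
    have h := congrFun ha ⟨BlockBasic.pReg (p := p) g, BlockBasic.not_dvd_orderOf_pReg g⟩
    simp only [Finset.sum_apply, Pi.smul_apply, Pi.zero_apply] at h ⊢
    simp only [← trFun_eq_pReg (p := p)] at h
    exact h
  · let Λ : MonoidAlgebra k G →ₐ[k] Module.End k (S i) := Algebra.lsmul k k (S i)
    have hΛ : trFun k (S i) g = LinearMap.trace k (S i) (Λ (c * single g 1)) := by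
      have : Λ c = 1 := LinearMap.ext fun v => hact i v
      rw [map_mul, this, one_mul]; rfl
    show ∑ y, _ * trFun k (S i) y = trFun k (S i) g
    rw [hΛ]
    conv_rhs => rw [← (MonoidAlgebra.basis G k).sum_repr (c * single g 1)]
    rw [map_sum, map_sum]
    refine Finset.sum_congr rfl fun y _ => ?_
    rw [map_smul, map_smul, MonoidAlgebra.basis_apply, smul_eq_mul]
    rfl

/-- A representation of a group of order prime to `p` inside the part cut out by a central
idempotent. -/
theorem exists_simple_part {H : Type u} [Group H] [Fintype H] {ι : Type*}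
    (ε : ι → MonoidAlgebra k H) (hne : ∀ i, ε i ≠ 0) (hidem : ∀ i, ε i * ε i = ε i) :
    ∃ U : ι → Submodule (MonoidAlgebra k H) (MonoidAlgebra k H),
      (∀ i, IsSimpleModule (MonoidAlgebra k H) (U i)) ∧ ∀ i, ∀ x ∈ U i, x * ε i = x := by
  classical
  haveI : Module.Finite k (MonoidAlgebra k H) := Module.Finite.of_basis (MonoidAlgebra.basis H k)
  haveI : IsArtinian (MonoidAlgebra k H) (MonoidAlgebra k H) :=
    isArtinian_of_tower k inferInstance
  have h : ∀ i, ∃ a : Submodule (MonoidAlgebra k H) (MonoidAlgebra k H),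
      IsAtom a ∧ a ≤ Submodule.span (MonoidAlgebra k H) {ε i} := fun i =>
    (eq_bot_or_exists_atom_le _).resolve_left fun h => hne i
      (by simpa [h] using Submodule.mem_span_singleton_self (R := MonoidAlgebra k H) (ε i))
  choose U hU hle using h
  refine ⟨U, fun i => isSimpleModule_iff_isAtom.2 (hU i), fun i x hx => ?_⟩
  obtain ⟨a, rfl⟩ := Submodule.mem_span_singleton.1 (hle i hx)
  rw [smul_eq_mul, mul_assoc, hidem]

end Cfsg.Agent.CycOne
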