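import Cfsg.Agent.CycOne.OverTheta
import Cfsg.Agent.CycOne.Traces
import Cfsg.Agent.H86.PrincipalRegular
import Cfsg.Agent.H85.Gallagher
import Cfsg.Agent.BlockBasic.BrauerCorr

/-!
# A block of full defect has at least as many independent restrictions to the regular elements as
the inertial index
-/

set_option linter.unusedSectionVars false
set_option linter.style.haveILetI false
set_option maxHeartbeats 2000000

open scoped ComplexConjugate

namespace Cfsg.Agent.CycOne

open MonoidAlgebra CharBasic BlockBasic H86.TraceQ H83.BlockAlgebra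

universe u

variable {G : Type u} [Group G] [Fintype G] {p : ℕ} [hp : Fact p.Prime]

theorem exists_frame_proj (L : Frame G p) :
    ∃ π : L.N →* L.H, (∀ n : L.N, (n : G) ∈ L.P → π n = 1) ∧ ∀ h : L.H, π (inH L h) = h := by
  have hbot : L.P ⊓ L.H = ⊥ := disjoint_iff.1 (Subgroup.disjoint_of_coprime_natCard
    (by rw [L.card_P]; exact (hp.out.coprime_iff_not_dvd).2 L.card_H))
  have huniq : ∀ u ∈ L.P, ∀ u' ∈ L.P, ∀ h ∈ L.H, ∀ h' ∈ L.H, u * h = u' * h' → h = h' := by
    intro u hu u' hu' h hh h' hh' he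
    have hmem : u'⁻¹ * u ∈ L.P ⊓ L.H := ⟨L.P.mul_mem (L.P.inv_mem hu') hu, by
      rw [show u'⁻¹ * u = h' * h⁻¹ by rw [eq_mul_inv_iff_mul_eq, mul_assoc, he, inv_mul_cancel_left]]
      exact L.H.mul_mem hh' (L.H.inv_mem hh)⟩
    rw [hbot, Subgroup.mem_bot, inv_mul_eq_one] at hmem
    exact mul_left_cancel (hmem.symm ▸ he)
  choose u hu h hh he using fun n : L.N => L.dec n n.2
  refine ⟨MonoidHom.mk' (fun n => ⟨h n, hh n⟩) fun a b => Subtype.ext ?_, fun n hn => Subtype.ext ?_,
    fun x => Subtype.ext ?_⟩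
  · refine huniq (u (a * b)) (hu _) (u a * (h a * u b * (h a)⁻¹))
      (L.P.mul_mem (hu a) (L.conj_mem _ (L.H_le (hh a)) _ (hu b))) _ (hh _) _
      (L.H.mul_mem (hh a) (hh b)) ?_
    rw [← he, Subgroup.coe_mul]
    conv_lhs => rw [he a, he b]
    simp [mul_assoc]
  · exact huniq (u n) (hu n) n hn _ (hh n) 1 L.H.one_mem (by rw [← he, mul_one])
  · exact huniq (u _) (hu _) 1 L.P.one_mem _ (hh _) x x.2 (by rw [← he, one_mul]; rfl)

theorem apply_mul_of_kernel {A : Type u} [Group A] [Finite A] (χ : IrrCharacter A) {d : A}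
    (hd : (χ : A → ℂ) d = (χ : A → ℂ) 1) (x : A) : (χ : A → ℂ) (d * x) = (χ : A → ℂ) x := by
  obtain ⟨n, ρ, hρ, he⟩ := χ.2
  rw [← he] at hd ⊢
  rw [Representation.char_one, CharBasic.character_eq_finrank_iff ρ d,
    ← Module.End.one_eq_id] at hd
  simp only [Representation.character, map_mul, hd, one_mul]

theorem isIrr_of_comp_surjective {A H : Type u} [Group A] [Fintype A] [Group H] [Fintype H]
    (f : A →* H) (hf : Function.Surjective f) {ψ : H → ℂ} (hψ : IsCharacter H ψ)
    (h : IsIrrCharacter A (fun a => ψ (f a))) : IsIrrCharacter H ψ :=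
  H85.isIrr_of_res f hψ h

variable (P : Sylow p G) (hP : Nat.card P = p) {M : Ideal AlgInt}
variable [Fintype (cen P)] [Fintype (nor P)]

include hP

/-- The Brauer image of the idempotent has central character congruent to one. -/
theorem omega_cen (hM : IsPModular p M) {θ : IrrCharacter (cen P)} {B : Set (IrrCharacter G)}
    (hind : IsInducedBlock M (cen P) (blockOf M (θ : cen P → ℂ)) B) :
    MemLocalIdeal M ((∑ c : cen P, blockCoeff B (c : G) * (θ : cen P → ℂ) c) /
      (θ : cen P → ℂ) 1 - 1) := by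
  classical
  obtain ⟨χ, hχ⟩ := isPBlock_nonempty hM hind.2.1
  have h := omega_brauerMap_of_induced hM P.isPGroup' (le_cen P hP) le_rfl (cen_le_nor P) hind
    (self_mem_blockOf hM θ) hχ (isCentralElt_blockElem B) (isIntElt_blockElem hM hind.2.1)
  rw [omega_blockElem, if_pos hχ, omega, chiLin] at h
  convert h using 3
  refine Finset.sum_congr rfl fun c _ => ?_
  rw [coeff_brauerMap, if_pos c.2, coeff_blockElem]

theorem idx_le_finrank_regular (hM : IsPModular p M) {θ : IrrCharacter (cen P)}
    (hθ : IsTriv (sylC P) θ) {B : Set (IrrCharacter G)}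
    (hind : IsInducedBlock M (cen P) (blockOf M (θ : cen P → ℂ)) B) :
    idx P θ ≤ Module.finrank ℂ (Submodule.span ℂ (Set.range
      fun (χ : {χ : IrrCharacter G // χ ∈ B}) (g : {g : G // ¬ p ∣ orderOf g}) =>
        (χ.1 : G → ℂ) g)) := by
  classical
  haveI : CharP (Residue hM) p := H86.PrimeOrder.charP_residue hM
  haveI : IsAlgClosed (Residue hM) := isAlgClosed_residue hM
  obtain ⟨L, hLP, hLN⟩ := exists_frame P hP
  letI : Fintype L.P := Fintype.ofFinite _
  letI : Fintype L.H := Fintype.ofFinite _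
  letI : Fintype L.N := Fintype.ofFinite _
  obtain ⟨π, hπP, hπH⟩ := exists_frame_proj L
  have hπsurj : Function.Surjective π := fun h => ⟨inH L h, hπH h⟩
  let toN : L.N →* nor P := Subgroup.inclusion hLN.le
  have htoN : Function.Surjective toN := fun n => ⟨⟨n, hLN.ge n.2⟩, Subtype.ext rfl⟩
  obtain ⟨E, hEc, hE⟩ := exists_over P hP hθ
  have hB := hind.2.1
  -- restriction to the complement
  have hker : ∀ μ ∈ E, ∀ n : L.N, (μ : nor P → ℂ) (toN n) = (μ : nor P → ℂ) (toN (inH L (π n))) := by
    intro μ hμ n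
    have hd : (n * (inH L (π n))⁻¹ : L.N).1 ∈ L.P := by
      obtain ⟨u, hu, h, hh, he⟩ := L.dec n n.2
      have hn : n = ⟨u, L.P_le hu⟩ * inH L ⟨h, hh⟩ := Subtype.ext he
      have hπn : π n = ⟨h, hh⟩ := by rw [hn, map_mul, hπP _ hu, one_mul, hπH]
      rw [hπn, hn, mul_inv_cancel_right]
      exact hu
    have hd' : (toN (n * (inH L (π n))⁻¹) : G) ∈ (P : Subgroup G) := by rw [← hLP]; exact hd
    have hkey := (hE μ hμ).1 _ hd'
    have hn : n = (n * (inH L (π n))⁻¹) * inH L (π n) := (inv_mul_cancel_right _ _).symm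
    conv_lhs => rw [hn, map_mul]
    exact apply_mul_of_kernel μ hkey _
  let μH : E → IrrCharacter L.H := fun μ => ⟨fun h => (μ.1 : nor P → ℂ) (toN (inH L h)), by
    refine isIrr_of_comp_surjective π hπsurj
      (H86.isCharacter_comp (IsIrr.isCharacter μ.1.2)
        (toN.comp { toFun := inH L, map_one' := rfl, map_mul' := fun _ _ => rfl })) ?_
    have h := CharInduce.IsIrr.comp μ.1.2 toN htoN
    simpa only [← hker μ.1 μ.2] using h⟩
  have hval : ∀ (μ : E) (n : L.N), (μH μ : L.H → ℂ) (π n) = (μ.1 : nor P → ℂ) (toN n) :=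
    fun μ n => (hker μ.1 μ.2 n).symm
  have hμinj : Function.Injective μH := fun μ μ' h => Subtype.ext (Subtype.ext (funext fun x => by
    obtain ⟨n, rfl⟩ := htoN x
    rw [← hval, h, hval]))
  have hblock : ∀ μ : E, IsPBlock M ({μH μ} : Set (IrrCharacter L.H)) := fun μ =>
    ⟨μH μ, ((blockOf_eq_singleton_iff hM _).2 fun h =>
      L.card_H (h.trans (Nat.div_dvd_of_dvd (charDegree_dvd (μH μ))))).symm⟩
  have hei := fun μ => isIntElt_blockElem hM (hblock μ)
  let ε : E → MonoidAlgebra (Residue hM) L.H := fun μ => red hM (blockElem {μH μ})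
  have hεcomm : ∀ μ x, ε μ * x = x * ε μ := fun μ x =>
    H86.PrimeOrder.red_blockElem_comm hM (hblock μ) x
  have hεidem : ∀ μ, ε μ * ε μ = ε μ := fun μ => by
    simp only [ε]; rw [← red_mul hM (hei μ) (hei μ), blockElem_idem]
  have hεorth : ∀ μ μ', μ ≠ μ' → ε μ * ε μ' = 0 := fun μ μ' hne => by
    simp only [ε]
    rw [← red_mul hM (hei μ) (hei μ'), blockElem_mul,
      show ({μH μ} : Set (IrrCharacter L.H)) ∩ {μH μ'} = ∅ from
        Set.singleton_inter_eq_empty.2 fun h => hne (hμinj h)]
    apply coeff_injective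
    ext g
    simp [coeff_red, coeff_blockElem, blockCoeff, res_zero]
  obtain ⟨U, hUsimp, hUε⟩ := exists_simple_part ε (fun μ => red_blockElem_ne_zero hM (hblock μ))
    hεidem
  haveI hfinA : Module.Finite (Residue hM) (MonoidAlgebra (Residue hM) L.H) :=
    Module.Finite.of_basis (MonoidAlgebra.basis L.H (Residue hM))
  haveI : ∀ μ, Module.Finite (Residue hM) (U μ) := fun μ =>
    Module.Finite.of_injective ((U μ).subtype.restrictScalars (Residue hM)) (U μ).subtype_injective
  haveI : ∀ μ, Nontrivial (U μ) := fun μ =>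
    haveI := hUsimp μ
    IsSimpleModule.nontrivial (MonoidAlgebra (Residue hM) L.H) (U μ)
  let σ : ∀ μ : E, L.N →* Module.End (Residue hM) (U μ) := fun μ => (act (Residue hM) (U μ)).comp π
  have hσ : ∀ μ n (x : U μ), σ μ n x = single (π n) (1 : Residue hM) • x := fun μ n x => rfl
  have hlift : ∀ (μ μ' : E) (φ : U μ →ₗ[Residue hM] U μ'), Equi L (σ μ) (σ μ') φ →
      ∀ (a : MonoidAlgebra (Residue hM) L.H) (x : U μ), φ (a • x) = a • φ x := by
    intro μ μ' φ hφ a x
    induction a using MonoidAlgebra.induction_linear with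
    | zero => simp
    | add a b ha hb => rw [add_smul, map_add, ha, hb, add_smul]
    | single h r =>
      rw [show single h r = r • single h (1 : Residue hM) by simp, smul_assoc, map_smul, smul_assoc]
      congr 1
      obtain ⟨n, rfl⟩ := hπsurj h
      exact (hφ n x).symm
  have hεone : ∀ (μ : E) (x : U μ), ε μ • x = x := fun μ x => Subtype.ext (by
    show ε μ * (x : MonoidAlgebra (Residue hM) L.H) = x
    rw [hεcomm, hUε μ _ x.2])
  -- the Brauer image
  let C : Finset L.N :=
    Finset.univ.filter fun n : L.N => (n : G) ∈ Subgroup.centralizer (L.P : Set G)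
  have hCN : Subgroup.centralizer (L.P : Set G) ≤ L.N := by
    rw [hLN, hLP]; exact cen_le_nor P
  have hconjC : ∀ (m n : L.N), n ∈ C → m * n * m⁻¹ ∈ C := fun m n hn => by
    simp only [C, Finset.mem_filter, Finset.mem_univ, true_and] at hn ⊢
    rw [hLP] at hn ⊢
    exact (conj_mem_centralizer_of_normalizer (hLN ▸ m.2) _).2 hn
  let z : MonoidAlgebra ℂ L.H := ∑ n ∈ C, single (π n) (blockCoeff B (n : G))
  have hzc : IsCentralElt z := isCentralElt_of_comm fun h => by
    obtain ⟨m, rfl⟩ := hπsurj h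
    simp only [z, Finset.mul_sum, Finset.sum_mul, single_mul_single, one_mul, mul_one, ← map_mul]
    refine (Finset.sum_bij' (fun n _ => m⁻¹ * n * m) (fun n _ => m * n * m⁻¹)
      (fun n hn => by simpa using hconjC m⁻¹ n hn)
      (fun n hn => hconjC m n hn) (fun n _ => by group) (fun n _ => by group) ?_)
    intro n _
    rw [show m * (m⁻¹ * n * m) = n * m by group,
      show ((m⁻¹ * n * m : L.N) : G) = (m : G)⁻¹ * n * ((m : G)⁻¹)⁻¹ by simp]
    rw [isClassFunction_blockCoeff B (n : G) (m : G)⁻¹]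
  have hzi : IsIntElt M z := fun g => by
    simp only [z, coeff_sum, Finsupp.finsetSum_apply]
    exact (locRing hM).sum_mem fun n _ =>
      isIntElt_single hM (π n) (memLocalRing_blockCoeff hM hB _) g
  have hom : ∀ μ : E, MemLocalIdeal M (omega (μH μ : L.H → ℂ) z - 1) := by
    intro μ
    obtain ⟨-, hμ1, hμc⟩ := hE μ.1 μ.2
    have hS : chiLin (μH μ : L.H → ℂ) z =
        ∑ c : cen P, blockCoeff B (c : G) * (μ.1 : nor P → ℂ) ⟨c, cen_le_nor P c.2⟩ := by
      rw [show chiLin (μH μ : L.H → ℂ) z =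
        ∑ n ∈ C, chiLin (μH μ : L.H → ℂ) (single (π n) (blockCoeff B (n : G))) from by
          simp only [z, chiLin, coeff_sum, Finsupp.finsetSum_apply, Finset.sum_mul]
          exact Finset.sum_comm]
      have hmC : ∀ g : G, g ∈ Subgroup.centralizer (L.P : Set G) ↔ g ∈ cen P := fun g => by
        rw [hLP]
      refine Finset.sum_bij'
        (fun n hn => (⟨(n : G), (hmC _).1 (Finset.mem_filter.1 hn).2⟩ : cen P))
        (fun c _ => (⟨(c : G), hCN ((hmC _).2 c.2)⟩ : L.N)) (fun _ _ => Finset.mem_univ _)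
        (fun c _ => Finset.mem_filter.2 ⟨Finset.mem_univ _, (hmC _).2 c.2⟩)
        (fun _ _ => rfl) (fun _ _ => rfl) fun n _ => ?_
      rw [chiLin_single, hval]
      rfl
    have hsum : (∑ c : cen P, blockCoeff B (c : G) * (μ.1 : nor P → ℂ) ⟨c, cen_le_nor P c.2⟩) *
        (Nat.card (stab P θ) : ℂ) =
        (Nat.card (nor P) : ℂ) * ∑ c : cen P, blockCoeff B (c : G) * (θ : cen P → ℂ) c := by
      simp only [Finset.sum_mul, mul_assoc, hμc, Finset.mul_sum]
      rw [Finset.sum_comm]
      rw [← Finset.sum_congr rfl fun n (_ : n ∈ (Finset.univ : Finset (nor P))) =>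
        (Fintype.sum_equiv (cenConj P n).toEquiv
          (fun c => blockCoeff B (c : G) * (θ : cen P → ℂ) (cenConj P n c))
          (fun c => blockCoeff B (c : G) * (θ : cen P → ℂ) c) fun c => by
            simp only [MulEquiv.toEquiv_eq_coe, EquivLike.coe_coe]
            rw [cenConj_coe, isClassFunction_blockCoeff B (c : G) (n : G)]).symm]
      simp only [Finset.sum_const, Finset.card_univ, nsmul_eq_mul, Nat.card_eq_fintype_card,
        Finset.mul_sum]
    have hμ1' : (μH μ : L.H → ℂ) 1 * (Nat.card (stab P θ) : ℂ) =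
        (Nat.card (nor P) : ℂ) * (θ : cen P → ℂ) 1 := by
      rw [← hμ1]
      congr 1
    have hst : (Nat.card (stab P θ) : ℂ) ≠ 0 := Nat.cast_ne_zero.2 Nat.card_pos.ne'
    have hnn : (Nat.card (nor P) : ℂ) ≠ 0 := Nat.cast_ne_zero.2 Nat.card_pos.ne'
    rw [show omega (μH μ : L.H → ℂ) z = (∑ c : cen P, blockCoeff B (c : G) * (θ : cen P → ℂ) c) /
      (θ : cen P → ℂ) 1 from ?_]
    · exact omega_cen P hP hM hind
    · rw [omega, hS, div_eq_div_iff (IsIrr.one_ne_zero (μH μ).2) (IsIrr.one_ne_zero θ.2)]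
      refine mul_right_cancel₀ hst ?_
      linear_combination ((θ : cen P → ℂ) 1) * hsum -
        (∑ c : cen P, blockCoeff B (c : G) * (θ : cen P → ℂ) c) * hμ1'
  have hzε : ∀ μ, red hM z * ε μ = ε μ := by
    intro μ
    have hz' : z * blockElem {μH μ} = omega (μH μ : L.H → ℂ) z • blockElem {μH μ} := by
      refine eq_of_omega_eq (hzc.mul (isCentralElt_blockElem _))
        ((isCentralElt_blockElem _).smul _) fun χ => ?_
      rw [omega_mul χ.2 hzc, omega_smul, omega_blockElem]
      by_cases h : χ = μH μ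
      · rw [h]
      · simp [h]
    apply coeff_injective
    ext g
    have hloc := memLocalRing_omega hM (μH μ).2 hzc hzi
    simp only [ε]
    rw [← red_mul hM hzi (hei μ), hz', coeff_red, coeff_red, coeff_smul_apply, smul_eq_mul,
      res_mul hM hloc (hei μ g)]
    have h1 : res hM (omega (μH μ : L.H → ℂ) z) = 1 := by
      have hsub := (locRing hM).sub_mem hloc (locRing hM).one_mem
      have h2 := (res_eq_zero_iff hM hsub).2 (hom μ)
      have h3 := res_add hM hsub (locRing hM).one_mem
      rw [sub_add_cancel, h2, zero_add, res_one] at h3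
      exact h3
    rw [h1, one_mul]
  let c : MonoidAlgebra (Residue hM) G := red hM (blockElem B)
  have hccidem : c * c = c := by
    simp only [c]
    rw [← red_mul hM (isIntElt_blockElem hM hB) (isIntElt_blockElem hM hB), blockElem_idem]
  have hsum : ∀ μ, ∑ n ∈ C, c.coeff (n : G) • σ μ n = 1 := by
    intro μ
    ext x
    simp only [LinearMap.sum_apply, LinearMap.smul_apply, Module.End.one_apply, hσ]
    have hred : red hM z = ∑ n ∈ C, c.coeff (n : G) • single (π n) (1 : Residue hM) := by
      simp only [z]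
      rw [red_sum hM C fun n _ => isIntElt_single hM (π n) (memLocalRing_blockCoeff hM hB _)]
      refine Finset.sum_congr rfl fun n _ => ?_
      apply coeff_injective
      ext g
      rw [coeff_red, coeff_smul_apply, coeff_single, coeff_single, Finsupp.single_apply,
        Finsupp.single_apply, smul_eq_mul, mul_ite, mul_one, mul_zero]
      simp only [c, coeff_red, coeff_blockElem]
      split_ifs
      · rfl
      · exact res_zero hM
    rw [Finset.sum_congr rfl fun (n : L.N) (_ : n ∈ C) => (smul_assoc (c.coeff (n : G))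
      (single (π n) (1 : Residue hM)) x).symm, ← Finset.sum_smul, ← hred,
      ← hεone μ x, ← mul_smul, hzε]
  have hσP : ∀ (μ : E) (n : L.N), (n : G) ∈ L.P → σ μ n = 1 := fun μ n hn => LinearMap.ext fun x => by
    rw [hσ, hπP n hn, ← MonoidAlgebra.one_def, one_smul, Module.End.one_apply]
  have hirr : ∀ (μ : E) (W : Submodule (Residue hM) (U μ)),
      (∀ n, ∀ w ∈ W, σ μ n w ∈ W) → W = ⊥ ∨ W = ⊤ := by
    intro μ W hW
    haveI := hUsimp μ
    let W' : Submodule (MonoidAlgebra (Residue hM) L.H) (U μ) :=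
      { carrier := W
        add_mem' := W.add_mem
        zero_mem' := W.zero_mem
        smul_mem' := fun a x hx => by
          induction a using MonoidAlgebra.induction_linear with
          | zero => rw [zero_smul]; exact W.zero_mem
          | add a b ha hb => rw [add_smul]; exact W.add_mem ha hb
          | single h r =>
            rw [show single h r = r • single h (1 : Residue hM) by simp, smul_assoc]
            obtain ⟨n, rfl⟩ := hπsurj h
            exact W.smul_mem r (hW n x hx) }
    rcases eq_bot_or_eq_top W' with h | h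
    · exact Or.inl (SetLike.ext fun x => (SetLike.ext_iff.1 h x).trans
        ((Submodule.mem_bot _).trans (Submodule.mem_bot _).symm))
    · exact Or.inr (SetLike.ext fun x => (SetLike.ext_iff.1 h x).trans
        ⟨fun _ => Submodule.mem_top, fun _ => Submodule.mem_top⟩)
  have hdis : ∀ μ μ' : E, μ ≠ μ' → ∀ φ : U μ →ₗ[Residue hM] U μ',
      Equi L (σ μ) (σ μ') φ → φ = 0 := by
    intro μ μ' hne φ hφ
    ext x
    have h := hlift μ μ' φ hφ (ε μ') x
    rw [hεone μ' (φ x), ← hεone μ x, ← mul_smul, hεorth μ' μ (Ne.symm hne), zero_smul, map_zero,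
      hεone μ x] at h
    rw [← h]
    rfl
  obtain ⟨t, hcl, hti, hfix⟩ := exists_traces_simple L (fun μ => U μ) σ hσP hirr hdis hccidem
    (H86.PrimeOrder.red_blockElem_comm hM hB) hCN C (fun n => by simp [C]) hsum
  have h := H86.PrimeOrder.card_le_finrank_regular hM hB t hcl hti hfix
  rwa [Fintype.card_coe, hEc] at h

end Cfsg.Agent.CycOne
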