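import Cfsg.Agent.H86.StarVectors
import Mathlib.Data.Fintype.BigOperators
import Mathlib.Algebra.Order.Ring.Abs
import Mathlib.Tactic.LinearCombination

/-!
# The shape of the vectors of a block with a defect group of prime order

At most `e + t` coordinates, each used, and `t` integer vectors of norm `e + 1` and mutual inner
product `e` force `e` coordinates with a common sign and one coordinate for each vector.
-/

set_option linter.unusedSectionVars false

namespace Cfsg.Agent.CycOne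

variable {X : Type*} [Fintype X] [DecidableEq X]

theorem abs_one_of_sum_sq {ι : Type*} {s : Finset ι} {a : ι → ℤ} {e : ℤ} (hne : ∀ x ∈ s, a x ≠ 0)
    (hsum : ∑ x ∈ s, a x ^ 2 ≤ e) (hcard : e ≤ s.card) :
    (s.card : ℤ) = e ∧ ∑ x ∈ s, a x ^ 2 = e ∧ ∀ x ∈ s, a x = 1 ∨ a x = -1 := by
  have h1 : ∀ x ∈ s, 1 ≤ a x ^ 2 := fun x hx => by
    nlinarith [Int.one_le_abs (hne x hx), sq_abs (a x)]
  have h2 : (s.card : ℤ) ≤ ∑ x ∈ s, a x ^ 2 := by simpa using Finset.sum_le_sum h1
  refine ⟨le_antisymm (h2.trans hsum) hcard, le_antisymm hsum (hcard.trans h2), fun x hx => ?_⟩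
  have hz : ∑ x ∈ s, (a x ^ 2 - 1) = 0 := by
    rw [Finset.sum_sub_distrib, Finset.sum_const, nsmul_eq_mul, mul_one]
    linarith
  have h3 := (Finset.sum_eq_zero_iff_of_nonneg fun x hx => by linarith [h1 x hx]).1 hz x hx
  exact sq_eq_one_iff.1 (by linarith)

theorem vectors_shape (V : Finset (X → ℤ)) (e : ℕ) (hV : V.Nonempty)
    (hn : ∀ v ∈ V, ∑ x, v x * v x = (e : ℤ) + 1)
    (hc : ∀ v ∈ V, ∀ w ∈ V, v ≠ w → ∑ x, v x * w x = (e : ℤ))
    (hnz : ∀ x, ∃ v ∈ V, v x ≠ 0) (hk : e + V.card ≤ Fintype.card X)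
    (d : X → ℤ) (hd : ∀ x, 0 < d x) (horth : ∀ v ∈ V, ∑ x, v x * d x = 0) :
    ∃ (φ : (X → ℤ) → X) (δ : ℤ), Set.InjOn φ V ∧ (δ = 1 ∨ δ = -1) ∧
      Fintype.card X = V.card + e ∧
      (∀ u ∈ V, ∀ v ∈ V, v (φ u) = if v = u then δ else 0) ∧
      ∀ x, x ∉ V.image φ → ∃ a : ℤ, (a = 1 ∨ a = -1) ∧ ∀ v ∈ V, v x = a := by
  classical
  rcases Nat.lt_or_ge V.card 2 with h1 | h2
  · obtain ⟨v, rfl⟩ : ∃ v, V = {v} :=
      Finset.card_eq_one.1 (by have := hV.card_pos; omega)
    simp only [Finset.mem_singleton, forall_eq, exists_eq_left] at hn hnz ⊢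
    rw [Finset.card_singleton] at hk
    obtain ⟨hcard, -, hpm⟩ := abs_one_of_sum_sq (s := Finset.univ) (a := v) (e := (e : ℤ) + 1)
      (fun x _ => hnz x) (by rw [← hn]; exact le_of_eq (Finset.sum_congr rfl fun x _ => sq (v x)))
      (by rw [Finset.card_univ]; exact_mod_cast hk)
    rw [Finset.card_univ] at hcard
    have hcard' : Fintype.card X = e + 1 := by exact_mod_cast hcard
    have : Nonempty X := Fintype.card_pos_iff.1 (by omega)
    obtain ⟨x₀⟩ := ‹Nonempty X›
    exact ⟨fun _ => x₀, v x₀, by simp, hpm x₀ (Finset.mem_univ _), by simp [hcard', add_comm],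
      by simp, fun x _ => ⟨v x, hpm x (Finset.mem_univ _), rfl⟩⟩
  obtain ⟨φ, τ, c, hφi, hτ, hφv, hrest⟩ := H86.star V (e : ℤ) h2 hn hc
  obtain ⟨v0, hv0⟩ := hV
  set R := (V.image φ)ᶜ with hR
  -- the sign is constant
  have hτc : ∀ u ∈ V, τ u = τ v0 := by
    intro u hu
    by_cases hu0 : u = v0
    · rw [hu0]
    have hsplit : ∀ v ∈ V, ∑ x, v x * d x =
        ∑ w ∈ V, τ w * c * d (φ w) + τ v * d (φ v) + ∑ x ∈ R, v0 x * d x := by
      intro v hv
      rw [← Finset.sum_add_sum_compl (V.image φ) fun x => v x * d x, Finset.sum_image hφi]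
      congr 1
      · rw [show τ v * d (φ v) = ∑ w ∈ V, if v = w then τ w * d (φ w) else 0 by
          rw [Finset.sum_ite_eq V v, if_pos hv], ← Finset.sum_add_distrib]
        refine Finset.sum_congr rfl fun w hw => ?_
        rw [hφv w hw v hv]
        split_ifs <;> ring
      · exact Finset.sum_congr rfl fun x hx => by
          rw [hrest x (Finset.mem_compl.1 hx) v hv v0 hv0]
    have hu' := (horth u hu).symm.trans (hsplit u hu)
    have hv' := (horth v0 hv0).symm.trans (hsplit v0 hv0)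
    have e1 : τ u * d (φ u) = τ v0 * d (φ v0) := by linarith
    have := hd (φ u)
    have := hd (φ v0)
    rcases hτ u hu with a | a <;> rcases hτ v0 hv0 with b | b <;> rw [a, b] at e1 <;> rw [a, b] <;>
      omega
  have hR0 : ∀ x ∈ R, v0 x ≠ 0 := fun x hx h => by
    obtain ⟨v, hv, hvx⟩ := hnz x
    exact hvx (by rw [hrest x (Finset.mem_compl.1 hx) v hv v0 hv0, h])
  have hτ2 : τ v0 * τ v0 = 1 := by rcases hτ v0 hv0 with a | a <;> rw [a] <;> norm_num
  have hnorm : (V.card : ℤ) * c ^ 2 + 2 * c + ∑ x ∈ R, v0 x ^ 2 = (e : ℤ) := by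
    have h := hn v0 hv0
    rw [← Finset.sum_add_sum_compl (V.image φ) fun x => v0 x * v0 x, Finset.sum_image hφi,
      Finset.sum_congr rfl (g := fun u => c ^ 2 + if v0 = u then 2 * c + 1 else 0) (fun u hu => by
        rw [hφv u hu v0 hv0, hτc u hu]
        split_ifs
        · linear_combination ((c + 1) ^ 2) * hτ2
        · linear_combination (c ^ 2) * hτ2),
      Finset.sum_add_distrib, Finset.sum_const, nsmul_eq_mul, Finset.sum_ite_eq V v0, if_pos hv0] at h
    simp only [← sq] at h ⊢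
    linarith
  have hRc : (e : ℤ) ≤ R.card := by
    have : R.card + V.card = Fintype.card X := by
      rw [hR, Finset.card_compl, ← Finset.card_image_of_injOn hφi]
      have := Finset.card_le_univ (V.image φ)
      omega
    exact_mod_cast (by omega : e ≤ R.card)
  have hRsum : (R.card : ℤ) ≤ ∑ x ∈ R, v0 x ^ 2 := by
    simpa using Finset.sum_le_sum fun x hx => (show (1 : ℤ) ≤ v0 x ^ 2 by
      nlinarith [Int.one_le_abs (hR0 x hx), sq_abs (v0 x)])
  have hneg : (V.card : ℤ) * c ^ 2 + 2 * c ≤ 0 := by linarith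
  have hcases : c = 0 ∨ (c = -1 ∧ V.card = 2) := by
    have h2' : (2 : ℤ) ≤ V.card := by exact_mod_cast h2
    rcases eq_or_ne c 0 with h | h
    · exact Or.inl h
    refine Or.inr ?_
    have h4 : 2 * c ^ 2 ≤ (V.card : ℤ) * c ^ 2 := mul_le_mul_of_nonneg_right h2' (sq_nonneg c)
    have h5 : c = -1 := by nlinarith [Int.one_le_abs h, sq_abs c]
    refine ⟨h5, ?_⟩
    rw [h5] at hneg
    have h6 : (V.card : ℤ) = 2 := by linarith
    exact_mod_cast h6
  obtain ⟨hRcard, -, hRpm⟩ := abs_one_of_sum_sq (s := R) (a := v0) (e := (e : ℤ)) hR0 (by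
    rcases hcases with h | ⟨h, h'⟩
    · rw [h] at hnorm; linarith
    · rw [h, h'] at hnorm; push_cast at hnorm; linarith) hRc
  have hcard : Fintype.card X = V.card + e := by
    have : (V.image φ).card + R.card = Fintype.card X := Finset.card_add_card_compl _
    rw [Finset.card_image_of_injOn hφi] at this
    have : R.card = e := by exact_mod_cast hRcard
    omega
  have hout : ∀ x, x ∉ V.image φ → ∃ a : ℤ, (a = 1 ∨ a = -1) ∧ ∀ v ∈ V, v x = a := fun x hx =>
    ⟨v0 x, hRpm x (Finset.mem_compl.2 hx), fun v hv => hrest x hx v hv v0 hv0⟩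
  rcases hcases with h | ⟨h, h'⟩
  · refine ⟨φ, τ v0, hφi, hτ v0 hv0, hcard, fun u hu v hv => ?_, hout⟩
    rw [hφv u hu v hv, hτc u hu, h]
    split_ifs <;> ring
  · -- two vectors: exchange the two coordinates
    obtain ⟨a, b, hab, hV'⟩ := Finset.card_eq_two.1 h'
    have ha : a ∈ V := by rw [hV']; simp
    have hb : b ∈ V := by rw [hV']; simp
    let φ' : (X → ℤ) → X := fun u => if u = a then φ b else φ a
    have himg : V.image φ' = V.image φ := by
      rw [hV']; simp [φ', hab.symm, Finset.pair_comm]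
    refine ⟨φ', -τ v0, ?_, by rcases hτ v0 hv0 with e | e <;> simp [e], hcard, fun u hu v hv => ?_,
      fun x hx => hout x (himg ▸ hx)⟩
    · intro u hu v hv he
      rw [Finset.mem_coe, hV', Finset.mem_insert, Finset.mem_singleton] at hu hv
      rcases hu with rfl | rfl <;> rcases hv with rfl | rfl
      · rfl
      · exact absurd (hφi hb ha (by simpa [φ', hab.symm] using he)) hab.symm
      · exact absurd (hφi ha hb (by simpa [φ', hab.symm] using he)) hab
      · rfl
    · have hu' := hu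
      have hv' := hv
      rw [hV', Finset.mem_insert, Finset.mem_singleton] at hu' hv'
      rcases hu' with rfl | rfl <;> rcases hv' with rfl | rfl <;>
        simp only [φ', if_pos, if_neg hab.symm, if_neg hab] <;>
        rw [hφv _ (by assumption) _ hv, hτc _ (by assumption), h] <;>
        simp [hab, hab.symm]

end Cfsg.Agent.CycOne
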