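import Cfsg.Agent.CycOne.Vectors
import Cfsg.Agent.H86.PrimeOrderFrame

/-!
# The inertia group of a character of the centralizer and its orbits
-/

set_option linter.unusedSectionVars false
set_option linter.style.haveILetI false

namespace Cfsg.Agent.CycOne

open CharBasic BlockBasic

universe u

variable {G : Type u} [Group G] [Fintype G] {p : ℕ} [hp : Fact p.Prime]
variable (P : Sylow p G)

/-- The centralizer inside the normalizer. -/
abbrev cenN : Subgroup (nor P) := (cen P).subgroupOf (nor P)

instance normal_cenN : (cenN P).Normal :=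
  ⟨fun c hc n => by
    rw [Subgroup.mem_subgroupOf] at hc ⊢
    exact (conj_mem_centralizer_of_normalizer n.2 ((c : nor P) : G)).2 hc⟩

theorem card_cenN : Nat.card (cenN P) = Nat.card (cen P) :=
  Nat.card_congr (Subgroup.subgroupOfEquivOfLe (cen_le_nor P)).toEquiv

/-- The inertia group of a character in the normalizer. -/
noncomputable def stab (θ : IrrCharacter (cen P)) : Subgroup (nor P) where
  carrier := {n | cact P n θ = θ}
  one_mem' := cact_one P θ
  mul_mem' {n m} hn hm := by
    show cact P (n * m) θ = θ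
    rw [← cact_mul, hn, hm]
  inv_mem' {n} hn := by
    show cact P n⁻¹ θ = θ
    conv_lhs => rw [← show cact P n θ = θ from hn]
    rw [cact_mul, mul_inv_cancel, cact_one]

theorem mem_stab {θ : IrrCharacter (cen P)} {n : nor P} : n ∈ stab P θ ↔ cact P n θ = θ :=
  Iff.rfl

theorem cenN_le_stab (θ : IrrCharacter (cen P)) : cenN P ≤ stab P θ :=
  fun _ hn => cact_eq_self_of_mem P hn θ

/-- The index of the centralizer in the inertia group. -/
noncomputable def idx (θ : IrrCharacter (cen P)) : ℕ := (cenN P).relIndex (stab P θ)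

theorem card_stab (θ : IrrCharacter (cen P)) :
    Nat.card (stab P θ) = idx P θ * Nat.card (cen P) := by
  rw [← Subgroup.index_mul_card ((cenN P).subgroupOf (stab P θ)),
    Nat.card_congr (Subgroup.subgroupOfEquivOfLe (cenN_le_stab P θ)).toEquiv, card_cenN]
  rfl

theorem idx_pos (θ : IrrCharacter (cen P)) : 0 < idx P θ :=
  Nat.pos_of_ne_zero Subgroup.index_ne_zero_of_finite

variable [Fintype (nor P)]

open scoped Classical in
theorem card_filter_stab (θ : IrrCharacter (cen P)) :
    (Finset.univ.filter fun n : nor P => cact P n θ = θ).card = idx P θ * Nat.card (cen P) := by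
  rw [← card_stab, ← Fintype.card_subtype, ← Nat.card_eq_fintype_card]
  rfl

variable (hP : Nat.card P = p)

include hP

/-- Only the centralizer fixes a character not trivial on `P`. -/
theorem mem_cen_of_fix {ψ : IrrCharacter (cen P)} (hψ : ¬ IsTriv (sylC P) ψ) {n : nor P}
    (h : cact P n ψ = ψ) : (n : G) ∈ cen P := by
  have hne : (isCS P hP).wt ψ ≠ trivialIrr := fun e => hψ <| by
    have h1 := (isCS P hP).tw_wt_base ψ
    rw [e] at h1
    have h2 : (isCS P hP).tw trivialIrr ((isCS P hP).base ψ) = (isCS P hP).base ψ :=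
      Subtype.ext (funext fun k => one_mul _)
    exact h1 ▸ h2.symm ▸ (isCS P hP).isTriv_base ψ
  have hval : ∀ (x : sylC P), (ψ : cen P → ℂ) x =
      ((isCS P hP).wt ψ : sylC P → ℂ) x * ((isCS P hP).base ψ : cen P → ℂ) 1 := fun x => by
    conv_lhs => rw [← (isCS P hP).tw_wt_base ψ]
    rw [(isCS P hP).tw_apply, (isCS P hP).proj_of_mem x.2,
      (isCS P hP).isTriv_base ψ _ x.2]
  refine Subgroup.mem_centralizer_iff.2 fun y hy => ?_
  by_contra hny
  let x : sylC P := ⟨⟨y, le_cen P hP hy⟩, hy⟩
  let x' : sylC P := ⟨cenConj P n x.1, cenConj_mem_sylC P n x.2⟩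
  have hxx : x' * x⁻¹ ≠ 1 := fun e => hny <| by
    have e1 : x' = x := mul_inv_eq_one.1 e
    have e2 : (n : G) * y * (n : G)⁻¹ = y := by
      exact (cenConj_coe P n x.1).symm.trans (congrArg (fun z : sylC P => ((z : cen P) : G)) e1)
    exact (mul_inv_eq_iff_eq_mul.1 e2).symm
  refine (isCS P hP).lam_ne_one hne hxx ?_
  have h1 : (ψ : cen P → ℂ) x' = (ψ : cen P → ℂ) x := by
    conv_rhs => rw [← h]
    rfl
  rw [hval, hval] at h1
  have h2 := mul_right_cancel₀ (IsIrr.one_ne_zero ((isCS P hP).base ψ).2) h1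
  rw [(isCS P hP).lam_mul, h2, ← (isCS P hP).lam_mul, mul_inv_cancel, (isCS P hP).lam_one]

open scoped Classical in
theorem card_filter_cact {ψ ψ' : IrrCharacter (cen P)} (hψ' : ¬ IsTriv (sylC P) ψ') :
    (Finset.univ.filter fun n : nor P => cact P n ψ' = ψ).card =
      if ∃ n : nor P, cact P n ψ' = ψ then Nat.card (cen P) else 0 := by
  split_ifs with h
  · obtain ⟨m, hm⟩ := h
    rw [← Fintype.card_subtype, ← Nat.card_eq_fintype_card]
    refine Nat.card_congr
      { toFun := fun n => ⟨((n.1 * m⁻¹ : nor P) : G), mem_cen_of_fix P hP hψ' ?_⟩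
        invFun := fun c => ⟨⟨c, cen_le_nor P c.2⟩ * m, ?_⟩
        left_inv := fun n => Subtype.ext (Subtype.ext (by simp))
        right_inv := fun c => Subtype.ext (by simp) }
    · rw [← cact_mul, n.2, ← hm, cact_mul, mul_inv_cancel, cact_one]
    · rw [← cact_mul, cact_eq_self_of_mem P (n := ⟨c, cen_le_nor P c.2⟩) c.2, hm]
  · rw [Finset.card_eq_zero, Finset.filter_eq_empty_iff]
    exact fun n _ hn => h ⟨n, hn⟩

end Cfsg.Agent.CycOne
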