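import Cfsg.Agent.CycOne.Rank
import Cfsg.Agent.CycOne.Shape

/-!
# The structure of a block of full defect when the Sylow subgroup has prime order
-/

set_option linter.unusedSectionVars false
set_option linter.style.haveILetI false
set_option maxHeartbeats 1000000

open scoped ComplexConjugate

namespace Cfsg.Agent.CycOne

open CharBasic BlockBasic

universe u

variable {G : Type u} [Group G] [Fintype G] {p : ℕ} [hp : Fact p.Prime]
variable (P : Sylow p G) (hP : Nat.card P = p) [Fintype (cen P)]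

include hP

open scoped Classical in
/-- The nontrivial members of the block of `θ`. -/
noncomputable def fam (θ : IrrCharacter (cen P)) : Finset (IrrCharacter (cen P)) :=
  Finset.univ.filter fun ψ => bs P hP ψ = θ ∧ ψ ≠ θ

theorem mem_fam {θ ψ : IrrCharacter (cen P)} : ψ ∈ fam P hP θ ↔ bs P hP ψ = θ ∧ ψ ≠ θ := by
  classical simp [fam]

theorem not_isTriv_of_mem_fam {θ ψ : IrrCharacter (cen P)} (h : ψ ∈ fam P hP θ) :
    ¬ IsTriv (sylC P) ψ := fun ht =>
  ((mem_fam P hP).1 h).2 (((mem_fam P hP).1 h).1 ▸ (bs_of_isTriv P hP ht).symm)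

theorem card_fam {θ : IrrCharacter (cen P)} (hθ : IsTriv (sylC P) θ) :
    (fam P hP θ).card + 1 = p := by
  classical
  have h := (isCS P hP).card_fibre hθ
  have hset : fam P hP θ = (Finset.univ.filter fun ψ => (isCS P hP).base ψ = θ).erase θ := by
    ext ψ
    rw [mem_fam P hP, Finset.mem_erase, Finset.mem_filter]
    exact ⟨fun h => ⟨h.2, Finset.mem_univ _, h.1⟩, fun h => ⟨h.2.2, h.1⟩⟩
  have hm : θ ∈ Finset.univ.filter fun ψ => (isCS P hP).base ψ = θ :=
    Finset.mem_filter.2 ⟨Finset.mem_univ _, (isCS P hP).base_of_isTriv hθ⟩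
  rw [hset, Finset.card_erase_of_mem hm, h]
  have := hp.out.pos
  omega

variable [Fintype (nor P)]

theorem cact_mem_fam {θ ψ : IrrCharacter (cen P)} (hψ : ψ ∈ fam P hP θ) {n : nor P}
    (hn : cact P n θ = θ) : cact P n ψ ∈ fam P hP θ := by
  refine (mem_fam P hP).2 ⟨by rw [bs_cact, ((mem_fam P hP).1 hψ).1, hn], fun h => ?_⟩
  exact not_isTriv_cact P hP n (not_isTriv_of_mem_fam P hP hψ)
    (h.symm ▸ ((mem_fam P hP).1 hψ).1 ▸ isTriv_bs P hP ψ)

theorem stab_of_cact_mem {θ ψ ψ' : IrrCharacter (cen P)} (hψ : ψ ∈ fam P hP θ)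
    (hψ' : ψ' ∈ fam P hP θ) {n : nor P} (h : cact P n ψ' = ψ) : cact P n θ = θ := by
  conv_lhs => rw [← ((mem_fam P hP).1 hψ').1, ← bs_cact, h, ((mem_fam P hP).1 hψ).1]

open scoped Classical in
theorem gram_fam {θ ψ ψ' : IrrCharacter (cen P)} (hψ : ψ ∈ fam P hP θ) (hψ' : ψ' ∈ fam P hP θ) :
    ∑ χ : IrrCharacter G, vec P hP χ ψ * vec P hP χ ψ' =
      (idx P θ : ℤ) + if ∃ n : nor P, cact P n ψ' = ψ then 1 else 0 := by
  have hC : (Nat.card (cen P) : ℤ) ≠ 0 := by exact_mod_cast Nat.card_pos.ne'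
  refine mul_left_cancel₀ hC ?_
  have h := gram P hP (not_isTriv_of_mem_fam P hP hψ) (not_isTriv_of_mem_fam P hP hψ')
  rw [((mem_fam P hP).1 hψ).1, ((mem_fam P hP).1 hψ').1] at h
  rw [h, show (Finset.univ.filter fun n : nor P => cact P n ψ' = ψ).card = _ by
    convert card_filter_cact P hP (ψ := ψ) (not_isTriv_of_mem_fam P hP hψ') using 4,
    show (Finset.univ.filter fun n : nor P => cact P n θ = θ).card = _ by
    convert card_filter_stab P θ using 4]
  split_ifs <;> push_cast <;> ring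

variable {M : Ideal AlgInt} {B : Set (IrrCharacter G)} {θ : IrrCharacter (cen P)}

theorem vec_eq_zero_off (hM : IsPModular p M)
    (hind : IsInducedBlock M (cen P) (blockOf M (θ : cen P → ℂ)) B) {ψ : IrrCharacter (cen P)}
    (hψ : ψ ∈ fam P hP θ) {χ : IrrCharacter G} (hχ : χ ∉ B) : vec P hP χ ψ = 0 :=
  vec_eq_zero_of_notMem P hP hM (((mem_fam P hP).1 hψ).1.symm ▸ hind) hχ

theorem exists_fam_ne_zero (hM : IsPModular p M) (hBP : IsDefectGroup p M B (P : Subgroup G))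
    (hd : 0 < blockDefect p B) (hθ : IsTriv (sylC P) θ)
    (hind : IsInducedBlock M (cen P) (blockOf M (θ : cen P → ℂ)) B) {χ : IrrCharacter G}
    (hχ : χ ∈ B) : ∃ ψ ∈ fam P hP θ, vec P hP χ ψ ≠ 0 := by
  obtain ⟨ψ, hψ⟩ := exists_vec_ne_zero P hP hM hind.2.1 hd hχ
  obtain ⟨n, hn⟩ := exists_cact_eq P hP hM hBP hθ (isTriv_bs P hP ψ) hind
    (induced_of_vec_ne_zero P hP hM hind.2.1 hχ hψ)
  rw [← vec_cact P hP χ n ψ] at hψ
  refine ⟨_, (mem_fam P hP).2 ⟨(bs_cact P hP n ψ).trans hn, fun h => hψ ?_⟩, hψ⟩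
  rw [h]
  exact vec_of_isTriv P hP χ hθ

open scoped Classical in
/-- The orbits of the inertia group on the family have the inertial index as length. -/
theorem card_orbit_fam {θ ψ : IrrCharacter (cen P)} (hψ : ψ ∈ fam P hP θ) :
    ((fam P hP θ).filter fun ψ' => ∃ n : nor P, cact P n ψ = ψ').card = idx P θ := by
  let S := Finset.univ.filter fun n : nor P => cact P n θ = θ
  have hset : ((fam P hP θ).filter fun ψ' => ∃ n : nor P, cact P n ψ = ψ') =
      S.image fun n => cact P n ψ := by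
    ext ψ'
    simp only [Finset.mem_filter, Finset.mem_image, S, Finset.mem_univ, true_and]
    constructor
    · rintro ⟨hψ', n, hn⟩
      exact ⟨n, stab_of_cact_mem P hP hψ' hψ hn, hn⟩
    · rintro ⟨n, hn, rfl⟩
      exact ⟨cact_mem_fam P hP hψ hn, n, rfl⟩
  have h := Finset.card_eq_sum_card_image (fun n : nor P => cact P n ψ) S
  rw [Finset.sum_congr rfl (g := fun _ => Nat.card (cen P)) fun ψ' hψ' => ?_, Finset.sum_const,
    smul_eq_mul, show S.card = idx P θ * Nat.card (cen P) by convert card_filter_stab P θ using 4,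
    ← hset] at h
  · exact (Nat.eq_of_mul_eq_mul_right Nat.card_pos h).symm
  · obtain ⟨m, hm, rfl⟩ := Finset.mem_image.1 hψ'
    rw [show (S.filter fun n => cact P n ψ = cact P m ψ) =
      Finset.univ.filter fun n : nor P => cact P n ψ = cact P m ψ from ?_,
      show (Finset.univ.filter fun n : nor P => cact P n ψ = cact P m ψ).card = _ by
        convert card_filter_cact P hP (ψ := cact P m ψ) (not_isTriv_of_mem_fam P hP hψ) using 4,
      if_pos ⟨m, rfl⟩]
    ext n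
    simp only [S, Finset.mem_filter, Finset.mem_univ, true_and, and_iff_right_iff_imp]
    intro hn
    exact stab_of_cact_mem P hP (cact_mem_fam P hP hψ (Finset.mem_filter.1 hm).2) hψ hn

/-- The structure of the block. -/
theorem block_structure (hM : IsPModular p M) (hBP : IsDefectGroup p M B (P : Subgroup G))
    (hd : 0 < blockDefect p B) (hθ : IsTriv (sylC P) θ)
    (hind : IsInducedBlock M (cen P) (blockOf M (θ : cen P → ℂ)) B) :
    ∃ (Y : Finset (IrrCharacter G)) (ζ : IrrCharacter (cen P) → IrrCharacter G) (δ : ℤ)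
      (a : IrrCharacter G → ℤ),
      (δ = 1 ∨ δ = -1) ∧ (∀ y ∈ Y, y ∈ B) ∧ Y.card * idx P θ + 1 = p ∧
      Nat.card B = Y.card + idx P θ ∧
      (∀ ψ ∈ fam P hP θ, ζ ψ ∈ Y) ∧ (∀ y ∈ Y, ∃ ψ ∈ fam P hP θ, ζ ψ = y) ∧
      (∀ ψ ∈ fam P hP θ, ∀ ψ' ∈ fam P hP θ, (ζ ψ = ζ ψ' ↔ ∃ n : nor P, cact P n ψ' = ψ)) ∧
      (∀ χ ∈ B, χ ∉ Y → (a χ = 1 ∨ a χ = -1) ∧ ∀ ψ ∈ fam P hP θ, vec P hP χ ψ = a χ) ∧
      ∀ y ∈ Y, ∀ ψ ∈ fam P hP θ, ∀ [Decidable (ζ ψ = y)],
        vec P hP y ψ = if ζ ψ = y then δ else 0 := by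
  classical
  let X := {χ : IrrCharacter G // χ ∈ B}
  set e := idx P θ with he
  have he0 : 0 < e := idx_pos P θ
  let T := fam P hP θ
  let F : IrrCharacter (cen P) → X → ℤ := fun ψ χ => vec P hP χ.1 ψ
  have hsum : ∀ (f : IrrCharacter G → ℤ) (ψ : IrrCharacter (cen P)), ψ ∈ T →
      (∀ χ, vec P hP χ ψ = 0 → f χ = 0) → ∑ χ : IrrCharacter G, f χ = ∑ χ : X, f χ.1 := by
    intro f ψ hψ hf
    rw [← Finset.sum_subtype (Finset.univ.filter (· ∈ B)) (fun χ => by simp) f]
    exact (Finset.sum_subset (Finset.filter_subset _ _) fun χ _ h => hf χ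
      (vec_eq_zero_off P hP hM hind hψ fun hB => h (Finset.mem_filter.2 ⟨Finset.mem_univ _, hB⟩))).symm
  have hgr : ∀ {ψ ψ'}, ψ ∈ T → ψ' ∈ T →
      ∑ χ : X, F ψ χ * F ψ' χ = (e : ℤ) + if ∃ n : nor P, cact P n ψ' = ψ then 1 else 0 := by
    intro ψ ψ' hψ hψ'
    rw [← gram_fam P hP hψ hψ', hsum (fun χ => vec P hP χ ψ * vec P hP χ ψ') ψ hψ
      fun χ h => by simp [h]]
  have hrefl : ∀ ψ, ∃ n : nor P, cact P n ψ = ψ := fun ψ => ⟨1, cact_one P ψ⟩
  have hsymm : ∀ {ψ ψ'}, (∃ n : nor P, cact P n ψ' = ψ) → ∃ n : nor P, cact P n ψ = ψ' := by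
    rintro ψ ψ' ⟨n, rfl⟩
    exact ⟨n⁻¹, by rw [cact_mul, mul_inv_cancel, cact_one]⟩
  have heq : ∀ {ψ ψ'}, ψ ∈ T → ψ' ∈ T → (F ψ = F ψ' ↔ ∃ n : nor P, cact P n ψ' = ψ) := by
    intro ψ ψ' hψ hψ'
    constructor
    · intro h
      by_contra hne
      have h1 := hgr hψ hψ'
      rw [if_neg hne, h, hgr hψ' hψ', if_pos (hrefl ψ')] at h1
      omega
    · rintro ⟨n, rfl⟩
      funext χ
      exact vec_cact P hP χ.1 n ψ'
  let V := T.image F
  have hVn : ∀ v ∈ V, ∑ χ, v χ * v χ = (e : ℤ) + 1 := fun v hv => by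
    obtain ⟨ψ, hψ, rfl⟩ := Finset.mem_image.1 hv
    rw [hgr hψ hψ, if_pos (hrefl ψ)]
  have hVc : ∀ v ∈ V, ∀ w ∈ V, v ≠ w → ∑ χ, v χ * w χ = (e : ℤ) := fun v hv w hw hvw => by
    obtain ⟨ψ, hψ, rfl⟩ := Finset.mem_image.1 hv
    obtain ⟨ψ', hψ', rfl⟩ := Finset.mem_image.1 hw
    rw [hgr hψ hψ', if_neg fun h => hvw ((heq hψ hψ').2 h), add_zero]
  have hfib : ∀ {ψ}, ψ ∈ T → (T.filter fun ψ' => F ψ' = F ψ).card = e := by
    intro ψ hψ
    refine Eq.trans ?_ (card_orbit_fam P hP hψ)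
    refine congrArg Finset.card (Finset.filter_congr fun ψ' hψ' => ?_)
    exact heq hψ' hψ
  have hVe : V.card * e + 1 = p := by
    rw [← card_fam P hP hθ, Finset.card_eq_sum_card_image F T,
      Finset.sum_congr rfl (g := fun _ => e) fun v hv => ?_, Finset.sum_const, smul_eq_mul]
    obtain ⟨ψ, hψ, rfl⟩ := Finset.mem_image.1 hv
    exact hfib hψ
  have hTne : T.Nonempty := Finset.card_pos.1 (by
    have := card_fam P hP hθ
    have := hp.out.two_le
    show 0 < (fam P hP θ).card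
    omega)
  have horth : ∀ {g : G}, ¬ p ∣ orderOf g → ∀ ψ ∈ T,
      ∑ χ : X, (F ψ χ : ℂ) * (χ.1 : G → ℂ) g = 0 := by
    intro g hg ψ hψ
    rw [← sum_vec_regular P hP hg ψ, ← Finset.sum_subtype (Finset.univ.filter (· ∈ B))
      (fun χ => by simp) fun χ : IrrCharacter G => (vec P hP χ ψ : ℂ) * (χ : G → ℂ) g]
    exact Finset.sum_subset (Finset.filter_subset _ _) fun χ _ h => by
      rw [vec_eq_zero_off P hP hM hind hψ fun hB => h (Finset.mem_filter.2 ⟨Finset.mem_univ _, hB⟩),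
        Int.cast_zero, zero_mul]
  -- the count
  have hk : e + V.card ≤ Fintype.card X := by
    let Φ : (X → ℂ) →ₗ[ℂ] ({g : G // ¬ p ∣ orderOf g} → ℂ) :=
      Fintype.linearCombination ℂ
        (fun (χ : X) (g : {g : G // ¬ p ∣ orderOf g}) => (χ.1 : G → ℂ) g)
    have hker : ∀ v : V, (fun χ : X => (v.1 χ : ℂ)) ∈ LinearMap.ker Φ := by
      rintro ⟨v, hv⟩
      obtain ⟨ψ, hψ, rfl⟩ := Finset.mem_image.1 hv
      rw [LinearMap.mem_ker]
      funext g
      simpa [Φ, Fintype.linearCombination_apply, Finset.sum_apply] using horth g.2 ψ hψ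
    have hli : LinearIndependent ℂ fun v : V => (⟨_, hker v⟩ : LinearMap.ker Φ) := by
      refine LinearIndependent.of_comp (LinearMap.ker Φ).subtype ?_
      rw [Fintype.linearIndependent_iff]
      intro c hc
      have h1 : ∀ w : V, (e : ℂ) * ∑ v, c v + c w = 0 := by
        intro w
        have h0 : ∑ χ : X, (∑ v : V, c v * (v.1 χ : ℂ)) * (w.1 χ : ℂ) = 0 := by
          refine Finset.sum_eq_zero fun χ _ => ?_
          have := congrFun hc χ
          simp only [Function.comp_apply, Submodule.coe_subtype, Finset.sum_apply, Pi.smul_apply,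
            smul_eq_mul, Pi.zero_apply] at this
          rw [this, zero_mul]
        have hg' : ∀ v : V, ∑ χ : X, (v.1 χ : ℂ) * (w.1 χ : ℂ) =
            (e : ℂ) + if v = w then 1 else 0 := fun v => by
          have hz : ∑ χ : X, v.1 χ * w.1 χ = (e : ℤ) + if v = w then 1 else 0 := by
            split_ifs with h
            · rw [h]; exact hVn _ w.2
            · rw [add_zero]; exact hVc _ v.2 _ w.2 fun h' => h (Subtype.ext h')
          have := congrArg (fun z : ℤ => (z : ℂ)) hz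
          simpa [apply_ite (fun z : ℤ => (z : ℂ))] using this
        simp only [Finset.sum_mul, mul_assoc] at h0
        rw [Finset.sum_comm] at h0
        simp only [← Finset.mul_sum, hg', mul_add, Finset.sum_add_distrib, mul_ite, mul_one,
          mul_zero, ← Finset.sum_mul] at h0
        rw [Fintype.sum_eq_single w (fun x hx => if_neg hx), if_pos rfl] at h0
        rw [mul_comm]
        exact h0
      intro w
      have h2 : ((e : ℂ) * (V.card : ℂ) + 1) * ∑ v, c v = 0 := by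
        have := Finset.sum_eq_zero fun v (_ : v ∈ Finset.univ) => h1 v
        rw [Finset.sum_add_distrib, Finset.sum_const, Finset.card_univ, Fintype.card_coe,
          nsmul_eq_mul] at this
        linear_combination this
      have h3 : ((e : ℂ) * (V.card : ℂ) + 1) ≠ 0 := by
        have : ((e * V.card + 1 : ℕ) : ℂ) ≠ 0 := Nat.cast_ne_zero.2 (Nat.succ_ne_zero _)
        push_cast at this
        exact this
      have := h1 w
      rwa [(mul_eq_zero.1 h2).resolve_left h3, mul_zero, zero_add] at this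
    have h1 := hli.fintype_card_le_finrank
    rw [Fintype.card_coe] at h1
    have h2 := idx_le_finrank_regular P hP hM hθ hind
    rw [← Fintype.range_linearCombination] at h2
    have h3 := LinearMap.finrank_range_add_finrank_ker Φ
    rw [Module.finrank_fintype_fun_eq_card] at h3
    calc e + V.card ≤ Module.finrank ℂ (LinearMap.range Φ) + Module.finrank ℂ (LinearMap.ker Φ) :=
          Nat.add_le_add h2 h1
      _ = _ := h3
  have hnz : ∀ χ : X, ∃ v ∈ V, v χ ≠ 0 := fun χ => by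
    obtain ⟨ψ, hψ, h⟩ := exists_fam_ne_zero P hP hM hBP hd hθ hind χ.2
    exact ⟨F ψ, Finset.mem_image_of_mem F hψ, h⟩
  obtain ⟨φ, δ, hφi, hδ, hcard, hφv, hout⟩ := vectors_shape V e (hTne.image F) hVn hVc hnz hk
    (fun χ => (charDegree (χ.1 : G → ℂ) : ℤ)) (fun χ => by exact_mod_cast charDegree_pos χ.1)
    fun v hv => by
      obtain ⟨ψ, hψ, rfl⟩ := Finset.mem_image.1 hv
      have h := horth (g := 1) (by rw [orderOf_one, Nat.dvd_one]; exact hp.out.ne_one) ψ hψ
      simp only [apply_one_eq_charDegree] at h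
      exact_mod_cast h
  let Y : Finset (IrrCharacter G) := (V.image φ).map (Function.Embedding.subtype _)
  let ζ : IrrCharacter (cen P) → IrrCharacter G := fun ψ => (φ (F ψ)).1
  have hYmem : ∀ {χ : X}, χ.1 ∈ Y ↔ χ ∈ V.image φ := fun {χ} =>
    Finset.mem_map' (Function.Embedding.subtype _)
  let a : IrrCharacter G → ℤ := fun χ =>
    if h : ∃ hχ : χ ∈ B, (⟨χ, hχ⟩ : X) ∉ V.image φ then (hout ⟨χ, h.1⟩ h.2).choose else 0
  refine ⟨Y, ζ, δ, a, hδ, ?_, ?_, ?_, ?_, ?_, ?_, ?_, ?_⟩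
  · intro y hy
    obtain ⟨χ, -, rfl⟩ := Finset.mem_map.1 hy
    exact χ.2
  · rw [Finset.card_map, Finset.card_image_of_injOn hφi, hVe]
  · rw [Finset.card_map, Finset.card_image_of_injOn hφi, Nat.card_eq_fintype_card]
    exact hcard
  · intro ψ hψ
    exact hYmem.2 (Finset.mem_image_of_mem _ (Finset.mem_image_of_mem _ hψ))
  · intro y hy
    obtain ⟨χ, hχ, rfl⟩ := Finset.mem_map.1 hy
    obtain ⟨v, hv, rfl⟩ := Finset.mem_image.1 hχ
    obtain ⟨ψ, hψ, rfl⟩ := Finset.mem_image.1 hv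
    exact ⟨ψ, hψ, rfl⟩
  · intro ψ hψ ψ' hψ'
    rw [← heq hψ hψ']
    exact ⟨fun h => hφi (Finset.mem_image_of_mem _ hψ) (Finset.mem_image_of_mem _ hψ')
      (Subtype.ext h), fun h => congrArg (fun v => (φ v).1) h⟩
  · intro χ hχ hχY
    have hx : (⟨χ, hχ⟩ : X) ∉ V.image φ := fun h => hχY (hYmem.2 h)
    have hex : ∃ hχ : χ ∈ B, (⟨χ, hχ⟩ : X) ∉ V.image φ := ⟨hχ, hx⟩
    have hspec := (hout ⟨χ, hex.1⟩ hex.2).choose_spec
    have ha : a χ = (hout ⟨χ, hex.1⟩ hex.2).choose := dif_pos hex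
    rw [ha]
    exact ⟨hspec.1, fun ψ hψ => hspec.2 _ (Finset.mem_image_of_mem F hψ)⟩
  · intro y hy ψ hψ _
    obtain ⟨χ, hχ, rfl⟩ := Finset.mem_map.1 hy
    obtain ⟨v, hv, rfl⟩ := Finset.mem_image.1 hχ
    have h := hφv v hv _ (Finset.mem_image_of_mem F hψ)
    refine h.trans (if_congr ?_ rfl rfl)
    exact ⟨fun e => congrArg (fun w => (φ w).1) e,
      fun e => hφi (Finset.mem_image_of_mem F hψ) hv (Subtype.ext e)⟩

end Cfsg.Agent.CycOne
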