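import Cfsg.Agent.CycOne.Structure

/-!
# Degrees and values in a block of full defect when the Sylow subgroup has prime order
-/

set_option linter.unusedSectionVars false
set_option linter.style.haveILetI false
set_option maxHeartbeats 1000000

namespace Cfsg.Agent.CycOne

open CharBasic BlockBasic

universe u

variable {G : Type u} [Group G] [Fintype G] {p : ℕ} [hp : Fact p.Prime]
variable (P : Sylow p G) (hP : Nat.card P = p) [Fintype (cen P)] [Fintype (nor P)]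

include hP

/-- A sum over the orbit of `θ` folds onto the family of `θ`. -/
theorem sum_orbit {θ : IrrCharacter (cen P)} (hθ : IsTriv (sylC P) θ)
    (g : IrrCharacter (cen P) → ℂ)
    (hg : ∀ ψ, g ψ ≠ 0 → ¬ IsTriv (sylC P) ψ ∧ ∃ n : nor P, cact P n θ = bs P hP ψ) :
    (Nat.card (stab P θ) : ℂ) * ∑ ψ, g ψ =
      ∑ n : nor P, ∑ ψ ∈ fam P hP θ, g (cact P n ψ) := by
  classical
  have hinner : ∀ n : nor P, ∑ ψ ∈ fam P hP θ, g (cact P n ψ) =
      ∑ ψ, if cact P n⁻¹ ψ ∈ fam P hP θ then g ψ else 0 := by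
    intro n
    rw [← Finset.sum_filter]
    refine Finset.sum_bij' (fun ψ _ => cact P n ψ) (fun ψ _ => cact P n⁻¹ ψ) ?_ ?_ ?_ ?_ ?_
    · intro ψ hψ
      refine Finset.mem_filter.2 ⟨Finset.mem_univ _, ?_⟩
      rwa [cact_mul, mul_inv_cancel, cact_one]
    · intro ψ hψ; exact (Finset.mem_filter.1 hψ).2
    · intro ψ _; rw [cact_mul, mul_inv_cancel, cact_one]
    · intro ψ _; rw [cact_mul, inv_mul_cancel, cact_one]
    · intro ψ _; rfl
  simp only [hinner]
  rw [Finset.sum_comm, Finset.mul_sum]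
  refine Finset.sum_congr rfl fun ψ _ => ?_
  by_cases h0 : g ψ = 0
  · simp [h0]
  obtain ⟨hnt, m, hm⟩ := hg ψ h0
  rw [← Finset.sum_filter, Finset.sum_const, nsmul_eq_mul, ← Fintype.card_subtype,
    ← Nat.card_eq_fintype_card]
  congr 2
  have hiff : ∀ n : nor P, cact P n⁻¹ ψ ∈ fam P hP θ ↔ m * n⁻¹ ∈ stab P θ := fun n => by
    rw [mem_fam P hP, bs_cact, ← hm, cact_mul, mem_stab, and_iff_left_iff_imp]
    intro _ he
    exact not_isTriv_cact P hP n⁻¹ hnt (he ▸ hθ)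
  exact Nat.card_congr
    { toFun := fun t => ⟨t.1⁻¹ * m, (hiff _).2 (by simp)⟩
      invFun := fun n => ⟨m * n.1⁻¹, (hiff _).1 n.2⟩
      left_inv := fun t => Subtype.ext (by simp)
      right_inv := fun n => Subtype.ext (by simp) }

/-- The family and `θ` sum to zero at singular elements. -/
theorem sum_fam_singular {θ : IrrCharacter (cen P)} (hθ : IsTriv (sylC P) θ) {c : cen P}
    (hc : p ∣ orderOf c) :
    ∑ ψ ∈ fam P hP θ, (ψ : cen P → ℂ) c = -(θ : cen P → ℂ) c := by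
  classical
  haveI := (isCS P hP).isMulCommutative
  letI : Fintype (sylC P) := Fintype.ofFinite _
  have h0 : ∑ ψ with (isCS P hP).base ψ = θ, (ψ : cen P → ℂ) c = 0 := by
    rw [(isCS P hP).sum_fibre hθ]
    simp only [(isCS P hP).tw_apply, ← Finset.sum_mul]
    have hsum := sum_degree_mul_apply (G := sylC P) ((isCS P hP).proj c)
    simp only [(isCS P hP).lam_one, one_mul] at hsum
    rw [hsum, if_neg (fun h => ((isCS P hP).proj_eq_one_iff c).1 h hc), zero_mul]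
  have hm : θ ∈ Finset.univ.filter fun ψ => (isCS P hP).base ψ = θ :=
    Finset.mem_filter.2 ⟨Finset.mem_univ _, (isCS P hP).base_of_isTriv hθ⟩
  rw [← Finset.add_sum_erase _ _ hm] at h0
  rw [eq_neg_iff_add_eq_zero, add_comm, ← h0]
  congr 1
  refine Finset.sum_congr ?_ fun _ _ => rfl
  ext ψ
  rw [mem_fam P hP, Finset.mem_erase, Finset.mem_filter]
  exact ⟨fun h => ⟨h.2, Finset.mem_univ _, h.1⟩, fun h => ⟨h.2.2, h.1⟩⟩

variable {M : Ideal AlgInt} {B : Set (IrrCharacter G)} {θ : IrrCharacter (cen P)}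

/-- The support of a vector lies over the orbit of `θ`. -/
theorem support_vec (hM : IsPModular p M) (hBP : IsDefectGroup p M B (P : Subgroup G))
    (hθ : IsTriv (sylC P) θ)
    (hind : IsInducedBlock M (cen P) (blockOf M (θ : cen P → ℂ)) B) {χ : IrrCharacter G}
    (hχ : χ ∈ B) {ψ : IrrCharacter (cen P)} (h : vec P hP χ ψ ≠ 0) :
    ¬ IsTriv (sylC P) ψ ∧ ∃ n : nor P, cact P n θ = bs P hP ψ := by
  refine ⟨fun ht => h (vec_of_isTriv P hP χ ht), ?_⟩
  obtain ⟨n, hn⟩ := exists_cact_eq P hP hM hBP hθ (isTriv_bs P hP ψ) hind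
    (induced_of_vec_ne_zero P hP hM hind.2.1 hχ h)
  exact ⟨n⁻¹, by rw [← hn, cact_mul, mul_inv_cancel, cact_one]⟩

/-- The degree sum. -/
theorem degree_sum (hM : IsPModular p M) (hBP : IsDefectGroup p M B (P : Subgroup G))
    (hθ : IsTriv (sylC P) θ)
    (hind : IsInducedBlock M (cen P) (blockOf M (θ : cen P → ℂ)) B) {χ : IrrCharacter G}
    (hχ : χ ∈ B) :
    (Nat.card (stab P θ) : ℤ) *
        ∑ ψ : IrrCharacter (cen P), vec P hP χ ψ * (charDegree (ψ : cen P → ℂ) : ℤ) =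
      (Nat.card (nor P) : ℤ) * (charDegree (θ : cen P → ℂ) : ℤ) *
        ∑ ψ ∈ fam P hP θ, vec P hP χ ψ := by
  apply Int.cast_injective (α := ℂ)
  push_cast
  simp only [← apply_one_eq_charDegree]
  rw [sum_orbit P hP hθ _ fun ψ hψ => support_vec P hP hM hBP hθ hind hχ fun h => hψ (by simp [h])]
  have hn : ∀ n : nor P, ∑ ψ ∈ fam P hP θ, (vec P hP χ (cact P n ψ) : ℂ) * (cact P n ψ : cen P → ℂ) 1 =
      (θ : cen P → ℂ) 1 * ∑ ψ ∈ fam P hP θ, (vec P hP χ ψ : ℂ) := fun n => by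
    rw [Finset.mul_sum]
    refine Finset.sum_congr rfl fun ψ hψ => ?_
    rw [vec_cact, cact_apply, map_one, ← bs_apply_one P hP ψ, ((mem_fam P hP).1 hψ).1, mul_comm]
  rw [Finset.sum_congr rfl fun n _ => hn n, Finset.sum_const, Finset.card_univ, nsmul_eq_mul,
    ← Nat.card_eq_fintype_card, mul_assoc]

/-- The values at singular elements when the vector is constant. -/
theorem singular_formula (hM : IsPModular p M) (hBP : IsDefectGroup p M B (P : Subgroup G))
    (hθ : IsTriv (sylC P) θ)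
    (hind : IsInducedBlock M (cen P) (blockOf M (θ : cen P → ℂ)) B) {χ : IrrCharacter G}
    (hχ : χ ∈ B) {a : ℤ} (ha : ∀ ψ ∈ fam P hP θ, vec P hP χ ψ = a) {c : cen P}
    (hc : p ∣ orderOf c) :
    (Nat.card (stab P θ) : ℂ) * (χ : G → ℂ) c =
      -(a : ℂ) * ∑ n : nor P, (θ : cen P → ℂ) (cenConj P n c) := by
  rw [singular_eq P hP χ hc,
    sum_orbit P hP hθ _ fun ψ hψ => support_vec P hP hM hBP hθ hind hχ fun h => hψ (by simp [h]),
    Finset.mul_sum]
  refine Finset.sum_congr rfl fun n _ => ?_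
  rw [Finset.sum_congr rfl (g := fun ψ : IrrCharacter (cen P) =>
    (a : ℂ) * (ψ : cen P → ℂ) (cenConj P n c)) fun ψ hψ => by rw [vec_cact, ha ψ hψ, cact_apply],
    ← Finset.mul_sum, sum_fam_singular P hP hθ (by rw [MulEquiv.orderOf_eq]; exact hc)]
  ring

omit [Fintype (nor P)] in
/-- The structure of a block of full defect. -/
structure BlockShape (B : Set (IrrCharacter G)) (θ : IrrCharacter (cen P)) where
  Y : Finset (IrrCharacter G)
  ζ : IrrCharacter (cen P) → IrrCharacter G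
  δ : ℤ
  a : IrrCharacter G → ℤ
  δ_sign : δ = 1 ∨ δ = -1
  subset : ∀ y ∈ Y, y ∈ B
  card_Y : Y.card * idx P θ + 1 = p
  card_B : Nat.card B = Y.card + idx P θ
  ζ_mem : ∀ ψ ∈ fam P hP θ, ζ ψ ∈ Y
  ζ_surj : ∀ y ∈ Y, ∃ ψ ∈ fam P hP θ, ζ ψ = y
  ζ_eq : ∀ ψ ∈ fam P hP θ, ∀ ψ' ∈ fam P hP θ, (ζ ψ = ζ ψ' ↔ ∃ n : nor P, cact P n ψ' = ψ)
  a_sign : ∀ χ ∈ B, χ ∉ Y → a χ = 1 ∨ a χ = -1
  vec_out : ∀ χ ∈ B, χ ∉ Y → ∀ ψ ∈ fam P hP θ, vec P hP χ ψ = a χ
  vec_self : ∀ ψ ∈ fam P hP θ, vec P hP (ζ ψ) ψ = δ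
  vec_other : ∀ y ∈ Y, ∀ ψ ∈ fam P hP θ, ζ ψ ≠ y → vec P hP y ψ = 0

theorem nonempty_blockShape (hM : IsPModular p M) (hBP : IsDefectGroup p M B (P : Subgroup G))
    (hd : 0 < blockDefect p B) (hθ : IsTriv (sylC P) θ)
    (hind : IsInducedBlock M (cen P) (blockOf M (θ : cen P → ℂ)) B) :
    Nonempty (BlockShape P hP B θ) := by
  classical
  obtain ⟨Y, ζ, δ, a, h1, h2, h3, h4, h5, h6, h7, h8, h9⟩ :=
    block_structure P hP hM hBP hd hθ hind
  exact ⟨{
    Y := Y, ζ := ζ, δ := δ, a := a, δ_sign := h1, subset := h2, card_Y := h3, card_B := h4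
    ζ_mem := h5, ζ_surj := h6, ζ_eq := h7
    a_sign := fun χ h h' => (h8 χ h h').1
    vec_out := fun χ h h' => (h8 χ h h').2
    vec_self := fun ψ hψ => (h9 _ (h5 ψ hψ) ψ hψ).trans (if_pos rfl)
    vec_other := fun y hy ψ hψ hne => (h9 y hy ψ hψ).trans (if_neg hne) }⟩

namespace BlockShape

variable {P} {hP} (S : BlockShape P hP B θ)

include S

theorem Y_nonempty : S.Y.Nonempty := by
  rw [Finset.nonempty_iff_ne_empty]
  intro h
  have := S.card_Y
  rw [h, Finset.card_empty, zero_mul, zero_add] at this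
  exact hp.out.ne_one this.symm

theorem card_diff : Nat.card ↥(B \ (S.Y : Set (IrrCharacter G))) = idx P θ := by
  classical
  rw [Nat.card_coe_set_eq, Set.ncard_sdiff (fun y hy => S.subset y hy), ← Nat.card_coe_set_eq B,
    S.card_B, Set.ncard_coe_finset, Nat.add_sub_cancel_left]

theorem pred_div : (p - 1) / idx P θ = S.Y.card := by
  rw [show p - 1 = S.Y.card * idx P θ by have := S.card_Y; omega]
  exact Nat.mul_div_cancel _ (idx_pos P θ)

theorem idx_dvd : idx P θ ∣ p - 1 :=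
  ⟨S.Y.card, by have := S.card_Y; rw [mul_comm]; omega⟩

theorem sum_fam_out {χ : IrrCharacter G} (hχ : χ ∈ B) (hχY : χ ∉ S.Y) (hθ : IsTriv (sylC P) θ) :
    ∑ ψ ∈ fam P hP θ, vec P hP χ ψ = ((p : ℤ) - 1) * S.a χ := by
  rw [Finset.sum_congr rfl (S.vec_out χ hχ hχY), Finset.sum_const, nsmul_eq_mul]
  have := card_fam P hP hθ
  congr 1
  omega

theorem sum_fam_in {y : IrrCharacter G} (hy : y ∈ S.Y) :
    ∑ ψ ∈ fam P hP θ, vec P hP y ψ = (idx P θ : ℤ) * S.δ := by
  classical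
  obtain ⟨ψ₀, hψ₀, rfl⟩ := S.ζ_surj y hy
  rw [← Finset.sum_filter_add_sum_filter_not (fam P hP θ) (fun ψ => S.ζ ψ = S.ζ ψ₀),
    Finset.sum_eq_zero (s := (fam P hP θ).filter fun ψ => ¬ S.ζ ψ = S.ζ ψ₀) fun ψ hψ =>
      S.vec_other _ hy ψ (Finset.mem_filter.1 hψ).1 (Finset.mem_filter.1 hψ).2,
    Finset.sum_congr rfl (g := fun _ => S.δ) fun ψ hψ => by
      rw [← (Finset.mem_filter.1 hψ).2]; exact S.vec_self ψ (Finset.mem_filter.1 hψ).1,
    Finset.sum_const, nsmul_eq_mul, add_zero]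
  congr 2
  rw [show idx P θ = _ from (card_orbit_fam P hP hψ₀).symm]
  exact congrArg Finset.card (Finset.filter_congr fun ψ hψ => S.ζ_eq ψ hψ ψ₀ hψ₀)

/-- The relation between the regular values. -/
theorem regular_relation (hM : IsPModular p M)
    (hind : IsInducedBlock M (cen P) (blockOf M (θ : cen P → ℂ)) B) {y : IrrCharacter G}
    (hy : y ∈ S.Y) {g : G} (hg : ¬ p ∣ orderOf g) :
    (∑ᶠ χ ∈ B \ (S.Y : Set (IrrCharacter G)), (S.a χ : ℂ) * (χ : G → ℂ) g) +
      (S.δ : ℂ) * (y : G → ℂ) g = 0 := by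
  classical
  obtain ⟨ψ, hψ, rfl⟩ := S.ζ_surj y hy
  have h := sum_vec_regular P hP hg ψ
  rw [← Finset.sum_filter_add_sum_filter_not Finset.univ (fun χ => χ ∈ S.Y)] at h
  rw [finsum_mem_eq_finite_toFinset_sum _ (Set.toFinite _)]
  rw [Finset.sum_eq_single (S.ζ ψ)
    (fun χ hχ hne => by
      rw [S.vec_other χ (Finset.mem_filter.1 hχ).2 ψ hψ fun e => hne e.symm, Int.cast_zero, zero_mul])
    (fun h' => absurd (Finset.mem_filter.2 ⟨Finset.mem_univ _, hy⟩) h'),
    S.vec_self ψ hψ, add_comm] at h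
  rw [← h]
  congr 1
  refine Finset.sum_subset_zero_on_sdiff (fun χ hχ => ?_) (fun χ hχ => ?_) (fun χ hχ => ?_)
  · exact Finset.mem_filter.2 ⟨Finset.mem_univ _, ((Set.Finite.mem_toFinset _).1 hχ).2⟩
  · rw [vec_eq_zero_off P hP hM hind hψ fun hB => ?_, Int.cast_zero, zero_mul]
    exact (Finset.mem_sdiff.1 hχ).2 ((Set.Finite.mem_toFinset _).2
      ⟨hB, (Finset.mem_filter.1 (Finset.mem_sdiff.1 hχ).1).2⟩)
  · rw [S.vec_out χ ((Set.Finite.mem_toFinset _).1 hχ).1 ((Set.Finite.mem_toFinset _).1 hχ).2 ψ hψ]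

theorem regular_eq (hM : IsPModular p M)
    (hind : IsInducedBlock M (cen P) (blockOf M (θ : cen P → ℂ)) B) {y y' : IrrCharacter G}
    (hy : y ∈ S.Y) (hy' : y' ∈ S.Y) {g : G} (hg : ¬ p ∣ orderOf g) :
    (y : G → ℂ) g = (y' : G → ℂ) g := by
  refine mul_left_cancel₀ (a := (S.δ : ℂ)) ?_ (add_left_cancel
    ((S.regular_relation hM hind hy hg).trans (S.regular_relation hM hind hy' hg).symm))
  rcases S.δ_sign with h | h <;> simp [h]

/-- The degrees outside the exceptional family. -/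
theorem degree_out (hM : IsPModular p M) (hBP : IsDefectGroup p M B (P : Subgroup G))
    (hθ : IsTriv (sylC P) θ)
    (hind : IsInducedBlock M (cen P) (blockOf M (θ : cen P → ℂ)) B) {χ : IrrCharacter G}
    (hχ : χ ∈ B) (hχY : χ ∉ S.Y) :
    (charDegree (χ : G → ℂ) : ℤ) ≡ -(S.a χ *
      ((stab P θ).index * charDegree (θ : cen P → ℂ) : ℕ)) [ZMOD p] := by
  have h := degree_sum P hP hM hBP hθ hind hχ
  rw [S.sum_fam_out hχ hχY hθ, ← Subgroup.card_mul_index (stab P θ)] at h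
  push_cast at h
  simp only [mul_assoc] at h
  have h2 := mul_left_cancel₀ (Nat.cast_ne_zero.2 (Nat.card_pos (α := stab P θ)).ne') h
  refine (degree_modEq P hP χ).trans ?_
  rw [h2, Int.modEq_iff_dvd]
  exact ⟨-(((stab P θ).index * charDegree (θ : cen P → ℂ) : ℕ) : ℤ) * S.a χ, by push_cast; ring⟩

/-- The degrees in the exceptional family. -/
theorem degree_in (hM : IsPModular p M) (hBP : IsDefectGroup p M B (P : Subgroup G))
    (hθ : IsTriv (sylC P) θ)
    (hind : IsInducedBlock M (cen P) (blockOf M (θ : cen P → ℂ)) B) {y : IrrCharacter G}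
    (hy : y ∈ S.Y) :
    (charDegree (y : G → ℂ) : ℤ) ≡
      S.δ * ((cenN P).index * charDegree (θ : cen P → ℂ) : ℕ) [ZMOD p] := by
  have h := degree_sum P hP hM hBP hθ hind (S.subset y hy)
  rw [S.sum_fam_in hy, card_stab, ← Subgroup.card_mul_index (cenN P), card_cenN] at h
  push_cast at h
  refine (degree_modEq P hP y).trans ?_
  have hne : (idx P θ : ℤ) * (Nat.card (cen P) : ℤ) ≠ 0 := by
    have h1 := idx_pos P θ
    have h2 : 0 < Nat.card (cen P) := Nat.card_pos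
    positivity
  rw [mul_left_cancel₀ hne (h.trans (show _ = ((idx P θ : ℤ) * (Nat.card (cen P) : ℤ)) *
    (S.δ * (((cenN P).index * charDegree (θ : cen P → ℂ) : ℕ) : ℤ)) by push_cast; ring))]

end BlockShape

end Cfsg.Agent.CycOne
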