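import Cfsg.Agent.CycOne.Central
import Cfsg.Agent.Cores.SecondMain
import Cfsg.Agent.BlockBasic.LocalBlocks
import Cfsg.Agent.H62.CoprimeFix
import Cfsg.Agent.H83.PrincipalPair

/-!
# The vectors of a Sylow subgroup of prime order

For an irreducible character `ψ` of the centralizer `C` of `P`, the vector of `ψ` takes at `χ` the
multiplicity of `ψ` in the restriction of `χ` minus that of the factor of `ψ` trivial on `P`.
-/

set_option linter.unusedSectionVars false
set_option linter.style.haveILetI false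
set_option maxHeartbeats 1000000

open scoped ComplexConjugate

namespace Cfsg.Agent.CycOne

open CharBasic BlockBasic

universe u

variable {G : Type u} [Group G] [Fintype G] {p : ℕ} [hp : Fact p.Prime]

/-- The centralizer of `P`. -/
abbrev cen (P : Sylow p G) : Subgroup G := Subgroup.centralizer ((P : Subgroup G) : Set G)

/-- The normalizer of `P`. -/
abbrev nor (P : Sylow p G) : Subgroup G := Subgroup.normalizer ((P : Subgroup G) : Set G)

/-- `P` inside its centralizer. -/
abbrev sylC (P : Sylow p G) : Subgroup (cen P) := (P : Subgroup G).subgroupOf (cen P)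

variable (P : Sylow p G)

theorem nor_le : nor P ≤ Subgroup.normalizer ((cen P : Subgroup G) : Set G) := fun _ hn =>
  Subgroup.mem_normalizer_iff.2 fun g => (conj_mem_centralizer_of_normalizer hn g).symm

/-- Conjugation on the centralizer. -/
def cenConj (n : nor P) : cen P ≃* cen P := H62.conjAut (cen P) (nor_le P n.2)

theorem cenConj_coe (n : nor P) (c : cen P) :
    ((cenConj P n c : cen P) : G) = (n : G) * c * (n : G)⁻¹ :=
  H62.conjAut_coe _ _ _

theorem cenConj_mem_sylC (n : nor P) {c : cen P} (hc : c ∈ sylC P) : cenConj P n c ∈ sylC P := by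
  rw [Subgroup.mem_subgroupOf] at hc ⊢
  rw [cenConj_coe]
  exact (Subgroup.mem_normalizer_iff.1 n.2 _).1 hc

/-- The conjugate of a character of the centralizer. -/
noncomputable def cact (n : nor P) (ψ : IrrCharacter (cen P)) : IrrCharacter (cen P) :=
  H83.irrComp (cenConj P n) ψ

theorem cact_apply (n : nor P) (ψ : IrrCharacter (cen P)) (c : cen P) :
    (cact P n ψ : cen P → ℂ) c = (ψ : cen P → ℂ) (cenConj P n c) := rfl

theorem cenConj_mul (n m : nor P) (c : cen P) :
    cenConj P (n * m) c = cenConj P n (cenConj P m c) :=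
  Subtype.ext (by simp only [cenConj_coe, Subgroup.coe_mul]; group)

theorem cenConj_one (c : cen P) : cenConj P 1 c = c :=
  Subtype.ext (by simp [cenConj_coe])

theorem cact_mul (n m : nor P) (ψ : IrrCharacter (cen P)) :
    cact P m (cact P n ψ) = cact P (n * m) ψ :=
  Subtype.ext (funext fun c => by simp only [cact_apply, cenConj_mul])

theorem cact_one (ψ : IrrCharacter (cen P)) : cact P 1 ψ = ψ :=
  Subtype.ext (funext fun c => by rw [cact_apply, cenConj_one])

theorem cact_eq_self_of_mem {n : nor P} (hn : (n : G) ∈ cen P) (ψ : IrrCharacter (cen P)) :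
    cact P n ψ = ψ :=
  Subtype.ext (funext fun c => by
    rw [cact_apply, show cenConj P n c = (⟨n, hn⟩ : cen P) * c * (⟨n, hn⟩ : cen P)⁻¹ from
      Subtype.ext (cenConj_coe P n c)]
    exact IsIrr.isClassFunction ψ.2 c ⟨n, hn⟩)

theorem cen_le_nor : cen P ≤ nor P := Subgroup.centralizer_le_normalizer _

variable (hP : Nat.card P = p)

include hP

theorem le_cen : (P : Subgroup G) ≤ cen P := fun x hx => Subgroup.mem_centralizer_iff.2 fun y hy => by
  haveI : IsCyclic (P : Subgroup G) := isCyclic_of_prime_card (p := p) hP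
  haveI := IsCyclic.isMulCommutative (α := (P : Subgroup G))
  exact congrArg Subtype.val (mul_comm' (⟨y, hy⟩ : (P : Subgroup G)) ⟨x, hx⟩)

theorem isCS : IsCentralSylow p (sylC P) where
  comm x hx k := Subtype.ext (Subgroup.mem_centralizer_iff.1 k.2 (x : G) hx)
  card_eq := (Nat.card_congr (Subgroup.subgroupOfEquivOfLe (le_cen P hP)).toEquiv).trans hP
  not_dvd_index h := P.not_dvd_index (h.trans (Subgroup.relIndex_dvd_index_of_le (le_cen P hP)))

theorem pPart_coe_mem (c : cen P) : (pPart (p := p) c : cen P).1 ∈ (P : Subgroup G) :=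
  (isCS P hP).pPart_mem c

theorem pPart_coe_ne_one {c : cen P} (hc : p ∣ orderOf c) :
    (pPart (p := p) c : cen P).1 ≠ 1 := fun h => (pPart_eq_one_iff c).1 (Subtype.ext h) hc

theorem zpowers_eq {x : G} (hx : x ∈ (P : Subgroup G)) (hx1 : x ≠ 1) :
    Subgroup.zpowers x = (P : Subgroup G) := by
  refine Subgroup.eq_of_le_of_card_ge (Subgroup.zpowers_le.2 hx) ?_
  have h := hP ▸ orderOf_dvd_natCard (G := (P : Subgroup G)) ⟨x, hx⟩
  rw [Subgroup.orderOf_mk] at h
  rw [Nat.card_zpowers, hP]
  rcases (Nat.dvd_prime hp.out).1 h with e | e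
  · exact absurd (orderOf_eq_one_iff.1 e) hx1
  · exact e.ge

theorem cen_eq_centralizer {x : G} (hx : x ∈ (P : Subgroup G)) (hx1 : x ≠ 1) :
    cen P = Subgroup.centralizer ({x} : Set G) := by
  ext g
  constructor
  · intro hg
    exact Subgroup.mem_centralizer_singleton_iff.2 (Subgroup.mem_centralizer_iff.1 hg x hx).symm
  · intro hg
    refine Subgroup.mem_centralizer_iff.2 fun y hy => ?_
    rw [SetLike.mem_coe, ← zpowers_eq P hP hx hx1] at hy
    obtain ⟨i, rfl⟩ := hy
    exact ((show Commute g x from Subgroup.mem_centralizer_singleton_iff.1 hg).zpow_right i).eq.symm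

/-- A conjugation carrying a singular element of `C` into `C` lies in the normalizer. -/
theorem mem_nor_of_conj {c d : cen P} {x : G} (hd : p ∣ orderOf d)
    (h : x * (d : G) * x⁻¹ = c) : x ∈ nor P := by
  have hc : p ∣ orderOf c := by
    rw [← Subgroup.orderOf_coe, ← h, show x * (d : G) * x⁻¹ = MulAut.conj x (d : G) from rfl,
      MulEquiv.orderOf_eq, Subgroup.orderOf_coe]
    exact hd
  have hval : ∀ e : cen P, (pPart (p := p) e : cen P).1 = pPart (p := p) (e : G) := fun e => by
    obtain ⟨k, hk⟩ := exists_orderOf_pPart (p := p) e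
    conv_rhs => rw [← pPart_mul_pReg (p := p) e, Subgroup.coe_mul]
    refine (pPart_mul_of (congrArg Subtype.val (commute_pPart_pReg e).eq) ⟨k, ?_⟩ ?_).symm
    · rw [Subgroup.orderOf_coe, hk]
    · rw [Subgroup.orderOf_coe]; exact not_dvd_orderOf_pReg e
  have hd' := zpowers_eq P hP (pPart_coe_mem P hP d) (pPart_coe_ne_one P hP hd)
  have hc' := zpowers_eq P hP (pPart_coe_mem P hP c) (pPart_coe_ne_one P hP hc)
  have hxd : x * (pPart (p := p) d : cen P).1 * x⁻¹ = (pPart (p := p) c : cen P).1 := by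
    rw [hval, hval, ← pPart_conj, h]
  have hmap : (P : Subgroup G).map (MulAut.conj x).toMonoidHom = (P : Subgroup G) := by
    conv_lhs => rw [← hd']
    rw [MonoidHom.map_zpowers]
    conv_rhs => rw [← hc', ← hxd]
    rfl
  refine Subgroup.mem_normalizer_iff.2 fun w => ?_
  conv_rhs => rw [← hmap]
  constructor
  · intro hw; exact ⟨w, hw, rfl⟩
  · rintro ⟨w', hw', he⟩
    rwa [← (MulAut.conj x).injective he]

/-- The factor trivial on `P`. -/
noncomputable def bs (ψ : IrrCharacter (cen P)) : IrrCharacter (cen P) := (isCS P hP).base ψ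

theorem isTriv_bs (ψ : IrrCharacter (cen P)) : IsTriv (sylC P) (bs P hP ψ) :=
  (isCS P hP).isTriv_base ψ

theorem bs_of_isTriv {φ : IrrCharacter (cen P)} (hφ : IsTriv (sylC P) φ) : bs P hP φ = φ :=
  (isCS P hP).base_of_isTriv hφ

theorem bs_apply_one (ψ : IrrCharacter (cen P)) :
    (bs P hP ψ : cen P → ℂ) 1 = (ψ : cen P → ℂ) 1 :=
  (isCS P hP).base_apply_one ψ

theorem bs_regular (ψ : IrrCharacter (cen P)) {s : cen P} (hs : ¬ p ∣ orderOf s) :
    (bs P hP ψ : cen P → ℂ) s = (ψ : cen P → ℂ) s :=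
  (isCS P hP).base_apply_regular ψ hs

/-- The factor trivial on `P` is determined by the values at regular elements. -/
theorem bs_eq_of_regular {ψ φ : IrrCharacter (cen P)} (hφ : IsTriv (sylC P) φ)
    (h : ∀ s : cen P, ¬ p ∣ orderOf s → (φ : cen P → ℂ) s = (ψ : cen P → ℂ) s) :
    bs P hP ψ = φ :=
  Subtype.ext (funext fun k => by
    rw [(isCS P hP).apply_eq_pReg (isTriv_bs P hP ψ) k, (isCS P hP).apply_eq_pReg hφ k,
      bs_regular P hP ψ (not_dvd_orderOf_pReg k), h _ (not_dvd_orderOf_pReg k)])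

theorem isTriv_cact (n : nor P) {φ : IrrCharacter (cen P)} (hφ : IsTriv (sylC P) φ) :
    IsTriv (sylC P) (cact P n φ) := fun x hx => by
  rw [cact_apply, cact_apply, map_one]
  exact hφ _ (cenConj_mem_sylC P n hx)

theorem bs_cact (n : nor P) (ψ : IrrCharacter (cen P)) :
    bs P hP (cact P n ψ) = cact P n (bs P hP ψ) :=
  bs_eq_of_regular P hP (isTriv_cact P hP n (isTriv_bs P hP ψ)) fun s hs => by
    rw [cact_apply, cact_apply, bs_regular P hP ψ (by rw [MulEquiv.orderOf_eq]; exact hs)]

theorem not_isTriv_cact (n : nor P) {ψ : IrrCharacter (cen P)} (hψ : ¬ IsTriv (sylC P) ψ) :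
    ¬ IsTriv (sylC P) (cact P n ψ) := fun h => by
  have := isTriv_cact P hP n⁻¹ h
  rw [cact_mul, mul_inv_cancel, cact_one] at this
  exact hψ this

variable [Fintype (cen P)]

omit hP in
/-- Multiplicity in the restriction. -/
noncomputable def cMult (χ : IrrCharacter G) (ψ : IrrCharacter (cen P)) : ℕ :=
  (classInner_isChar_nat (CharInduce.IsChar.res (IsIrr.isCharacter χ.2) (cen P))
    (IsIrr.isCharacter ψ.2)).choose

omit hP in
theorem cMult_spec (χ : IrrCharacter G) (ψ : IrrCharacter (cen P)) :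
    classInner (fun c : cen P => (χ : G → ℂ) c) (ψ : cen P → ℂ) = (cMult P χ ψ : ℂ) :=
  (classInner_isChar_nat (CharInduce.IsChar.res (IsIrr.isCharacter χ.2) (cen P))
    (IsIrr.isCharacter ψ.2)).choose_spec

omit hP in
theorem restrict_eq (χ : IrrCharacter G) (c : cen P) :
    (χ : G → ℂ) c = ∑ ψ : IrrCharacter (cen P), (cMult P χ ψ : ℂ) * (ψ : cen P → ℂ) c := by
  have h := congrFun (classFunction_expansion (ψ := fun c : cen P => (χ : G → ℂ) c)
    (fun g x => IsIrr.isClassFunction χ.2 (g : G) (x : G))) c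
  simpa only [Finset.sum_apply, Pi.smul_apply, smul_eq_mul, cMult_spec] using h

omit hP in
theorem cMult_cact (χ : IrrCharacter G) (n : nor P) (ψ : IrrCharacter (cen P)) :
    cMult P χ (cact P n ψ) = cMult P χ ψ := by
  have h : classInner (fun c : cen P => (χ : G → ℂ) c) (cact P n ψ : cen P → ℂ) =
      classInner (fun c : cen P => (χ : G → ℂ) c) (ψ : cen P → ℂ) := by
    rw [classInner_def, classInner_def]
    congr 1
    refine Fintype.sum_equiv (cenConj P n).toEquiv _ _ fun c => ?_
    simp only [MulEquiv.toEquiv_eq_coe, EquivLike.coe_coe, cact_apply, cenConj_coe]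
    rw [IsIrr.isClassFunction χ.2]
  rw [cMult_spec, cMult_spec] at h
  exact_mod_cast h

/-- The vector. -/
noncomputable def vec (χ : IrrCharacter G) (ψ : IrrCharacter (cen P)) : ℤ :=
  (cMult P χ ψ : ℤ) - (cMult P χ (bs P hP ψ) : ℤ)

theorem vec_of_isTriv (χ : IrrCharacter G) {φ : IrrCharacter (cen P)}
    (hφ : IsTriv (sylC P) φ) : vec P hP χ φ = 0 := by
  rw [vec, bs_of_isTriv P hP hφ, sub_self]

theorem vec_cact (χ : IrrCharacter G) (n : nor P) (ψ : IrrCharacter (cen P)) :
    vec P hP χ (cact P n ψ) = vec P hP χ ψ := by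
  rw [vec, vec, bs_cact, cMult_cact, cMult_cact]

/-- The function against which the vector is taken. -/
noncomputable def ker' (ψ : IrrCharacter (cen P)) (c : cen P) : ℂ :=
  conj ((ψ : cen P → ℂ) c) - conj ((bs P hP ψ : cen P → ℂ) c)

theorem ker'_regular (ψ : IrrCharacter (cen P)) {c : cen P} (hc : ¬ p ∣ orderOf c) :
    ker' P hP ψ c = 0 := by
  rw [ker', bs_regular P hP ψ hc, sub_self]

theorem vec_spec (χ : IrrCharacter G) (ψ : IrrCharacter (cen P)) :
    (vec P hP χ ψ : ℂ) =
      (Nat.card (cen P) : ℂ)⁻¹ * ∑ c : cen P, (χ : G → ℂ) c * ker' P hP ψ c := by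
  rw [vec, Int.cast_sub, Int.cast_natCast, Int.cast_natCast, ← cMult_spec, ← cMult_spec,
    classInner_def, classInner_def, ← mul_sub, ← Finset.sum_sub_distrib]
  simp only [ker', mul_sub]

/-- The regular columns are orthogonal to every vector. -/
theorem sum_vec_regular {g : G} (hg : ¬ p ∣ orderOf g) (ψ : IrrCharacter (cen P)) :
    ∑ χ : IrrCharacter G, (vec P hP χ ψ : ℂ) * (χ : G → ℂ) g = 0 := by
  simp only [vec_spec, Finset.mul_sum, Finset.sum_mul]
  rw [Finset.sum_comm]
  refine Finset.sum_eq_zero fun c _ => ?_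
  by_cases hc : p ∣ orderOf c
  swap
  · simp [ker'_regular P hP ψ hc]
  have h0 : ∑ χ : IrrCharacter G, (χ : G → ℂ) c * conj ((χ : G → ℂ) g⁻¹) = 0 := by
    rw [second_orthogonality_count]
    haveI : IsEmpty {x : G // x * g⁻¹ * x⁻¹ = (c : G)} := ⟨fun x => hg (by
      rw [← orderOf_inv, ← MulEquiv.orderOf_eq (MulAut.conj x.1), MulAut.conj_apply, x.2,
        Subgroup.orderOf_coe]
      exact hc)⟩
    rw [Nat.card_of_isEmpty, Nat.cast_zero]
  simp only [conj_apply_eq_inv, inv_inv] at h0
  rw [Finset.sum_congr rfl (g := fun χ : IrrCharacter G =>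
    ((Nat.card (cen P) : ℂ)⁻¹ * ker' P hP ψ c) * ((χ : G → ℂ) c * (χ : G → ℂ) g))
    (fun χ _ => by ring), ← Finset.mul_sum, h0, mul_zero]

variable [Fintype (nor P)]

open scoped Classical in
/-- The inner products of the vectors. -/
theorem gram {ψ ψ' : IrrCharacter (cen P)} (hψ : ¬ IsTriv (sylC P) ψ)
    (hψ' : ¬ IsTriv (sylC P) ψ') :
    (Nat.card (cen P) : ℤ) * ∑ χ : IrrCharacter G, vec P hP χ ψ * vec P hP χ ψ' =
      ((Finset.univ.filter fun n : nor P => cact P n ψ' = ψ).card : ℤ) +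
        (Finset.univ.filter fun n : nor P => cact P n (bs P hP ψ') = bs P hP ψ).card := by
  apply Int.cast_injective (α := ℂ)
  push_cast
  set C : ℂ := (Nat.card (cen P) : ℂ)
  have hC : C ≠ 0 := Nat.cast_ne_zero.2 Nat.card_pos.ne'
  have hv' : ∀ χ : IrrCharacter G, (vec P hP χ ψ' : ℂ) =
      C⁻¹ * ∑ d : cen P, conj ((χ : G → ℂ) d) * conj (ker' P hP ψ' d) := fun χ => by
    rw [show (vec P hP χ ψ' : ℂ) = conj ((vec P hP χ ψ' : ℤ) : ℂ) from (map_intCast _ _).symm,
      vec_spec, map_mul, map_inv₀, Complex.conj_natCast, map_sum]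
    simp only [map_mul]
    rfl
  have hinner : ∀ c : cen P, p ∣ orderOf c →
      ∑ d : cen P, conj (ker' P hP ψ' d) *
          ∑ χ : IrrCharacter G, (χ : G → ℂ) c * conj ((χ : G → ℂ) d) =
        ∑ n : nor P, conj (ker' P hP ψ' (cenConj P n c)) := by
    intro c hc
    simp only [second_orthogonality_count]
    have e : ∀ d : cen P, conj (ker' P hP ψ' d) *
        (Nat.card {x : G // x * (d : G) * x⁻¹ = (c : G)} : ℂ) =
        ∑ n : nor P, if cenConj P n d = c then conj (ker' P hP ψ' d) else 0 := by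
      intro d
      rw [← Finset.sum_filter, Finset.sum_const, nsmul_eq_mul, mul_comm,
        ← Fintype.card_subtype, ← Nat.card_eq_fintype_card]
      by_cases hd : p ∣ orderOf d
      · congr 2
        refine Nat.card_congr
          { toFun := fun x => ⟨⟨x.1, mem_nor_of_conj P hP hd x.2⟩, Subtype.ext ?_⟩
            invFun := fun n => ⟨(n.1 : G), ?_⟩
            left_inv := fun x => rfl
            right_inv := fun n => rfl }
        · rw [cenConj_coe]; exact x.2
        · rw [← cenConj_coe]; exact congrArg Subtype.val n.2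
      · rw [ker'_regular P hP ψ' hd, map_zero, mul_zero, mul_zero]
    simp only [e]
    rw [Finset.sum_comm]
    refine Fintype.sum_equiv (Equiv.inv _) _ _ fun n => ?_
    rw [Finset.sum_eq_single (cenConj P n⁻¹ c)
      (fun d _ hd => if_neg fun h => hd (by rw [← h, ← cenConj_mul, inv_mul_cancel, cenConj_one]))
      (fun h => absurd (Finset.mem_univ _) h), if_pos (by rw [← cenConj_mul, mul_inv_cancel, cenConj_one]),
      Equiv.inv_apply]
  have hker : ∀ n : nor P, C⁻¹ * ∑ c : cen P, ker' P hP ψ c * conj (ker' P hP ψ' (cenConj P n c)) =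
      (if cact P n ψ' = ψ then 1 else 0) + (if cact P n (bs P hP ψ') = bs P hP ψ then 1 else 0) := by
    intro n
    have e := fun a b : IrrCharacter (cen P) =>
      (classInner_def (a : cen P → ℂ) (b : cen P → ℂ)).symm.trans (classInner_irrCharacter a b)
    have h1 : cact P n ψ' ≠ bs P hP ψ := fun h => not_isTriv_cact P hP n hψ' (h ▸ isTriv_bs P hP ψ)
    have h2 : cact P n (bs P hP ψ') ≠ ψ := fun h =>
      hψ (h ▸ isTriv_cact P hP n (isTriv_bs P hP ψ'))
    rw [← e, ← e]
    have e1 := e (cact P n ψ') (bs P hP ψ)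
    have e2 := e (cact P n (bs P hP ψ')) ψ
    rw [if_neg h1] at e1
    rw [if_neg h2] at e2
    rw [← sub_zero ((_ : ℂ) + _), ← add_zero (0 : ℂ)]
    nth_rewrite 1 [← e1]
    nth_rewrite 1 [← e2]
    rw [← mul_add, ← mul_add, ← mul_sub, ← Finset.sum_add_distrib, ← Finset.sum_add_distrib,
      ← Finset.sum_sub_distrib]
    refine congrArg _ (Finset.sum_congr rfl fun c _ => ?_)
    simp only [ker', map_sub, Complex.conj_conj, cact_apply]
    ring
  have key : C * ∑ χ : IrrCharacter G, (vec P hP χ ψ : ℂ) * (vec P hP χ ψ' : ℂ) =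
      ∑ n : nor P, C⁻¹ * ∑ c : cen P, ker' P hP ψ c * conj (ker' P hP ψ' (cenConj P n c)) := by
    calc C * ∑ χ : IrrCharacter G, (vec P hP χ ψ : ℂ) * (vec P hP χ ψ' : ℂ)
        = C * ∑ c : cen P, C⁻¹ * C⁻¹ * (ker' P hP ψ c * ∑ d : cen P, conj (ker' P hP ψ' d) *
            ∑ χ : IrrCharacter G, (χ : G → ℂ) c * conj ((χ : G → ℂ) d)) := by
          congr 1
          have e0 : ∀ χ : IrrCharacter G, (vec P hP χ ψ : ℂ) * (vec P hP χ ψ' : ℂ) =
              ∑ c : cen P, ∑ d : cen P, C⁻¹ * C⁻¹ * (ker' P hP ψ c * (conj (ker' P hP ψ' d) *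
                ((χ : G → ℂ) c * conj ((χ : G → ℂ) d)))) := fun χ => by
            rw [vec_spec, hv', mul_mul_mul_comm, Finset.sum_mul_sum, Finset.mul_sum]
            refine Finset.sum_congr rfl fun c _ => ?_
            rw [Finset.mul_sum]
            exact Finset.sum_congr rfl fun d _ => by ring
          simp only [e0, Finset.mul_sum]
          rw [Finset.sum_comm]
          exact Finset.sum_congr rfl fun c _ => Finset.sum_comm
      _ = _ := by
          have e : ∀ c : cen P, ker' P hP ψ c * (∑ d : cen P, conj (ker' P hP ψ' d) *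
              ∑ χ : IrrCharacter G, (χ : G → ℂ) c * conj ((χ : G → ℂ) d)) =
              ∑ n : nor P, ker' P hP ψ c * conj (ker' P hP ψ' (cenConj P n c)) := fun c => by
            by_cases hc : p ∣ orderOf c
            · rw [hinner c hc, Finset.mul_sum]
            · simp [ker'_regular P hP ψ hc]
          rw [Finset.sum_congr rfl fun c (_ : c ∈ Finset.univ) => congrArg (C⁻¹ * C⁻¹ * ·) (e c)]
          simp only [Finset.mul_sum]
          rw [Finset.sum_comm]
          refine Finset.sum_congr rfl fun n _ => Finset.sum_congr rfl fun c _ => ?_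
          field_simp
  rw [key, Finset.sum_congr rfl fun n _ => hker n, Finset.sum_add_distrib, Finset.sum_boole,
    Finset.sum_boole]

variable {M : Ideal AlgInt}

omit [Fintype (nor P)] in
theorem exists_induced (hM : IsPModular p M) (φ : IrrCharacter (cen P)) :
    ∃ B, IsInducedBlock M (cen P) (blockOf M (φ : cen P → ℂ)) B :=
  inducedBlockDefined hM P.isPGroup' (le_cen P hP) le_rfl (cen_le_nor P) (isPBlock_blockOf M φ)

omit [Fintype (nor P)] in
/-- The vector of a block of `C` vanishes outside the block it induces. -/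
theorem vec_eq_zero_of_notMem (hM : IsPModular p M) {ψ : IrrCharacter (cen P)}
    {B : Set (IrrCharacter G)}
    (hind : IsInducedBlock M (cen P) (blockOf M (bs P hP ψ : cen P → ℂ)) B)
    {χ : IrrCharacter G} (hχ : χ ∉ B) : vec P hP χ ψ = 0 := by
  classical
  haveI := (isCS P hP).isMulCommutative
  letI : Fintype (sylC P) := Fintype.ofFinite _
  set φ := bs P hP ψ with hφdef
  have hφ : IsTriv (sylC P) φ := isTriv_bs P hP ψ
  set m : IrrCharacter (sylC P) → ℂ := fun l => (cMult P χ ((isCS P hP).tw l φ) : ℂ) with hm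
  have h0 : ∀ x : sylC P, x ≠ 1 → ∑ l, m l * (l : sylC P → ℂ) x = 0 := by
    intro x hx
    have hx' : ((x : cen P) : G) ∈ (P : Subgroup G) := x.2
    have hx1 : ((x : cen P) : G) ≠ 1 := fun h => hx (Subtype.ext (Subtype.ext h))
    have h := Cores.chiLin_blockElem_single_eq_zero hM hind (x : cen P) (fun z hz => by
      rw [isPPart_iff, (pPart_eq_self_iff _).2 ?_] at hz
      · rw [← hz, ← cen_eq_centralizer P hP hx' hx1]
      · obtain ⟨k, hk⟩ := IsPGroup.iff_orderOf.1 P.isPGroup' ⟨_, hx'⟩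
        exact ⟨k, by rwa [Subgroup.orderOf_mk] at hk⟩) hχ
    rw [← Cores.blockPart_eq_chiLin _ (θ := fun k : cen P => (χ : G → ℂ) k)
        (fun g y => IsIrr.isClassFunction χ.2 (g : G) (y : G)),
      blockPart] at h
    rw [show Fintype.ofFinite (cen P) = ‹Fintype (cen P)› from Subsingleton.elim _ _] at h
    simp only [finsum_mem_eq_sum_ite, cMult_spec] at h
    rw [← Finset.sum_filter, Finset.filter_congr
      (fun ψ' _ => (isCS P hP).mem_block_iff hM hφ ψ'), (isCS P hP).sum_fibre hφ] at h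
    have hne : (φ : cen P → ℂ) 1 ≠ 0 := IsIrr.one_ne_zero φ.2
    refine mul_right_cancel₀ hne ?_
    rw [zero_mul, ← h, Finset.sum_mul]
    refine Finset.sum_congr rfl fun l _ => ?_
    rw [(isCS P hP).tw_apply, (isCS P hP).proj_of_mem x.2, hφ _ x.2]
    simp only [hm, mul_assoc]
  have hconst : ∀ l₀, (p : ℂ) * m l₀ = ∑ l, m l := by
    intro l₀
    have h1 : ∑ x : sylC P, (∑ l, m l * (l : sylC P → ℂ) x) * conj ((l₀ : sylC P → ℂ) x) =
        (p : ℂ) * m l₀ := by
      simp only [Finset.sum_mul, mul_assoc]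
      rw [Finset.sum_comm]
      simp only [← Finset.mul_sum]
      have e : ∀ l : IrrCharacter (sylC P),
          ∑ x : sylC P, (l : sylC P → ℂ) x * conj ((l₀ : sylC P → ℂ) x) =
            if l = l₀ then (p : ℂ) else 0 := fun l => by
        have h2 := classInner_irrCharacter l l₀
        rw [classInner_def, inv_mul_eq_iff_eq_mul₀ (Nat.cast_ne_zero.2 Nat.card_pos.ne'),
          (isCS P hP).card_eq] at h2
        rw [h2]; split_ifs <;> simp
      simp only [e, mul_ite, mul_zero, Finset.sum_ite_eq', Finset.mem_univ, if_true]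
      ring
    rw [← h1, Finset.sum_eq_single (1 : sylC P) (fun x _ hx => by rw [h0 x hx, zero_mul])
      (fun h => absurd (Finset.mem_univ _) h)]
    simp [(isCS P hP).lam_one]
  have hψ : (isCS P hP).tw ((isCS P hP).wt ψ) φ = ψ := (isCS P hP).tw_wt_base ψ
  have htriv : (isCS P hP).tw trivialIrr φ = φ :=
    Subtype.ext (funext fun k => one_mul _)
  have h3 : m ((isCS P hP).wt ψ) = m trivialIrr :=
    mul_left_cancel₀ (Nat.cast_ne_zero.2 hp.out.ne_zero) ((hconst _).trans (hconst _).symm)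
  simp only [hm, hψ, htriv] at h3
  rw [vec, sub_eq_zero, Int.natCast_inj]
  exact_mod_cast h3

omit [Fintype (nor P)] in
/-- A nonzero vector comes from a root. -/
theorem induced_of_vec_ne_zero (hM : IsPModular p M) {ψ : IrrCharacter (cen P)}
    {B : Set (IrrCharacter G)} (hB : IsPBlock M B) {χ : IrrCharacter G} (hχ : χ ∈ B)
    (hv : vec P hP χ ψ ≠ 0) :
    IsInducedBlock M (cen P) (blockOf M (bs P hP ψ : cen P → ℂ)) B := by
  obtain ⟨B', hB'⟩ := exists_induced P hP hM (bs P hP ψ)
  have hχ' : χ ∈ B' := by_contra fun h => hv (vec_eq_zero_of_notMem P hP hM hB' h)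
  rwa [isPBlock_eq_of_mem hM hB hB'.2.1 hχ hχ']

omit [Fintype (nor P)] in
/-- The roots are conjugate. -/
theorem exists_cact_eq (hM : IsPModular p M) {B : Set (IrrCharacter G)}
    (hBP : IsDefectGroup p M B (P : Subgroup G)) {φ φ' : IrrCharacter (cen P)}
    (hφ : IsTriv (sylC P) φ) (hφ' : IsTriv (sylC P) φ')
    (h : IsInducedBlock M (cen P) (blockOf M (φ : cen P → ℂ)) B)
    (h' : IsInducedBlock M (cen P) (blockOf M (φ' : cen P → ℂ)) B) :
    ∃ n : nor P, cact P n φ' = φ := by
  obtain ⟨g, hg, hdc⟩ := exists_localClass hBP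
  obtain ⟨n, hn, hsb⟩ := exists_normTwist_sameBlock hM (nor P) (nor_le P)
    (θ := φ) (φ := φ') fun z hzs hzi hzN =>
      omega_congr_of_roots hM P.isPGroup' (le_cen P hP) le_rfl (cen_le_nor P) (nor_le P) hg hdc.2.2
        h h' hzs hzi hzN
  refine ⟨⟨n, hn⟩, ?_⟩
  have heq : normTwist φ' ⟨n, nor_le P hn⟩ = cact P ⟨n, hn⟩ φ' := rfl
  rw [heq, (isCS P hP).sameBlock_iff hM] at hsb
  rwa [(isCS P hP).base_of_isTriv hφ, (isCS P hP).base_of_isTriv (isTriv_cact P hP _ hφ')] at hsb

omit [Fintype (nor P)] in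
/-- The values at the singular elements of `C`. -/
theorem singular_eq (χ : IrrCharacter G) {c : cen P} (hc : p ∣ orderOf c) :
    (χ : G → ℂ) c = ∑ ψ : IrrCharacter (cen P), (vec P hP χ ψ : ℂ) * (ψ : cen P → ℂ) c := by
  classical
  haveI := (isCS P hP).isMulCommutative
  letI : Fintype (sylC P) := Fintype.ofFinite _
  simp only [vec, Int.cast_sub, Int.cast_natCast, sub_mul, Finset.sum_sub_distrib, ← restrict_eq]
  rw [eq_comm, sub_eq_self,
    ← Finset.sum_fiberwise_of_maps_to (g := bs P hP) (t := Finset.univ.image (bs P hP))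
      (fun ψ hψ => Finset.mem_image_of_mem _ hψ)]
  refine Finset.sum_eq_zero fun φ hφ' => ?_
  obtain ⟨ψ₀, -, rfl⟩ := Finset.mem_image.1 hφ'
  have hφ := isTriv_bs P hP ψ₀
  refine Eq.trans (Finset.sum_congr rfl (g := fun ψ : IrrCharacter (cen P) =>
    (cMult P χ (bs P hP ψ₀) : ℂ) * (ψ : cen P → ℂ) c) fun ψ hψ => by
      rw [(Finset.mem_filter.1 hψ).2]) ?_
  rw [show (Finset.univ.filter fun ψ => bs P hP ψ = bs P hP ψ₀) =
    Finset.univ.filter fun ψ => (isCS P hP).base ψ = bs P hP ψ₀ from rfl,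
    (isCS P hP).sum_fibre hφ]
  simp only [(isCS P hP).tw_apply, ← mul_assoc, ← Finset.sum_mul, ← Finset.mul_sum]
  have hsum := sum_degree_mul_apply (G := sylC P) ((isCS P hP).proj c)
  simp only [(isCS P hP).lam_one, one_mul] at hsum
  rw [hsum, if_neg (fun h => ((isCS P hP).proj_eq_one_iff c).1 h hc), mul_zero, zero_mul]

omit [Fintype (nor P)] in
/-- The degree modulo `p`. -/
theorem degree_modEq (χ : IrrCharacter G) :
    (charDegree (χ : G → ℂ) : ℤ) ≡ ∑ ψ : IrrCharacter (cen P),
      vec P hP χ ψ * (charDegree (ψ : cen P → ℂ) : ℤ) [ZMOD p] := by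
  classical
  set S : ℤ := ∑ φ ∈ Finset.univ.image (bs P hP),
    (cMult P χ φ : ℤ) * (charDegree (φ : cen P → ℂ) : ℤ) with hS
  rw [Int.modEq_iff_dvd]
  refine ⟨-S, ?_⟩
  apply Int.cast_injective (α := ℂ)
  push_cast [hS]
  simp only [← apply_one_eq_charDegree, vec, Int.cast_sub, Int.cast_natCast, sub_mul,
    Finset.sum_sub_distrib]
  rw [← restrict_eq, Subgroup.coe_one, sub_sub_cancel_left, mul_neg, neg_inj, Finset.mul_sum,
    ← Finset.sum_fiberwise_of_maps_to (g := bs P hP) (t := Finset.univ.image (bs P hP))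
      (fun ψ hψ => Finset.mem_image_of_mem _ hψ)]
  refine Finset.sum_congr rfl fun φ hφ' => ?_
  obtain ⟨ψ₀, -, rfl⟩ := Finset.mem_image.1 hφ'
  rw [Finset.sum_congr rfl (g := fun _ : IrrCharacter (cen P) =>
    (cMult P χ (bs P hP ψ₀) : ℂ) * (bs P hP ψ₀ : cen P → ℂ) 1) fun ψ hψ => by
      rw [← bs_apply_one P hP ψ, (Finset.mem_filter.1 hψ).2],
    Finset.sum_const, nsmul_eq_mul]
  congr 2
  exact_mod_cast (isCS P hP).card_fibre (isTriv_bs P hP ψ₀)

omit [Fintype (nor P)] in
/-- In a block of full defect every character has a nonzero vector at a root. -/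
theorem exists_vec_ne_zero (hM : IsPModular p M) {B : Set (IrrCharacter G)} (hB : IsPBlock M B)
    (hd : 0 < blockDefect p B) {χ : IrrCharacter G} (hχ : χ ∈ B) :
    ∃ ψ, vec P hP χ ψ ≠ 0 := by
  by_contra hno
  push Not at hno
  have hdeg := degree_modEq P hP χ
  simp only [hno, zero_mul, Finset.sum_const_zero] at hdeg
  rw [Int.modEq_zero_iff_dvd, Int.natCast_dvd_natCast] at hdeg
  have h1 : (Nat.card G).factorization p = 1 := by
    rw [← Nat.pow_right_injective hp.out.two_le |>.eq_iff]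
    show p ^ (Nat.card G).factorization p = p ^ 1
    rw [pow_one, ← P.card_eq_multiplicity]
    exact hP
  have h2 : (charDegree (χ : G → ℂ)).factorization p = 1 :=
    le_antisymm (h1 ▸ (Nat.factorization_le_iff_dvd (charDegree_pos χ).ne' Nat.card_pos.ne').2
      (BlockBasic.charDegree_dvd χ) p) (hp.out.factorization_pos_of_dvd (charDegree_pos χ).ne' hdeg)
  have h3 : blockOf M (χ : G → ℂ) = {χ} := by
    rw [blockOf_eq_singleton_iff hM]
    intro h
    have hne : Nat.card G / charDegree (χ : G → ℂ) ≠ 0 :=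
      (Nat.div_pos (Nat.le_of_dvd Nat.card_pos (BlockBasic.charDegree_dvd χ)) (charDegree_pos χ)).ne'
    have h4 := hp.out.factorization_pos_of_dvd hne h
    rw [Nat.factorization_div (BlockBasic.charDegree_dvd χ), Finsupp.tsub_apply, h1, h2] at h4
    omega
  rw [blockDefect, isPBlock_eq_blockOf hM hB hχ, h3, Set.image_singleton, csInf_singleton, h1,
    h2] at hd
  omega

end Cfsg.Agent.CycOne
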